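import Groth.Agent.StMod.K908.Dense
import Groth.Agent.StMod.K907.Alg
import Groth.Agent.Ega1.QCohLoc
import Groth.Agent.CohqB.FiniteType2
import Groth.Prelude.Def_StMod3
import Mathlib.AlgebraicGeometry.QuasiAffine

/-!
# Generation by finitely many sections over a quasi-affine object

* `exists_gen_sections`: a quasi-coherent module of finite type on a quasi-affine scheme is generated by finitely many
  global sections, on affine neighbourhoods of all points;
* `span_eq_top`: generation near every point of the scheme under `x` implies generation after restriction to any affine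
  object over `x`.
-/

set_option autoImplicit false
set_option linter.unusedVariables false
set_option linter.style.haveILetI false
set_option backward.isDefEq.respectTransparency false
set_option backward.isDefEq.respectTransparency.types false
set_option linter.dupNamespace false
set_option linter.unusedSectionVars false

universe v w u

open CategoryTheory CategoryTheory.Limits AlgebraicGeometry Opposite TopologicalSpace StMod
open Groth.Agent Groth.Agent.CohqA.BaseChangeMod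

namespace K159.Gen

open K908.AMod K908.QHom K908.QSec K908.Desc K908.Fam K907.Sec

section Sch

variable {X : Scheme.{u}} {M : X.Modules}

theorem exists_local_gen [X.IsQuasiAffine] (hM : Coh.IsQCoh M) (hft : CohB1.IsFT M) (p : X) :
    ∃ (D : X.Opens) (s : Finset Γ(M, ⊤)), p ∈ D ∧ IsAffineOpen D ∧
      Submodule.span Γ(X, D) (Ega1.QCohLoc.res M (le_top : D ≤ ⊤) '' (s : Set Γ(M, ⊤))) = ⊤ := by
  classical
  have hqs : QuasiSeparatedSpace X := inferInstance
  obtain ⟨_, ⟨_, ⟨r, hr, rfl⟩, rfl⟩, hxr, -⟩ := (Scheme.IsQuasiAffine.isBasis_basicOpen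
    X).exists_subset_of_mem_open (Set.mem_univ p) isOpen_univ
  have hspan : Submodule.span Γ(X, X.basicOpen r)
      (Set.range (Ega1.QCohLoc.res M (X.basicOpen_le r))) = ⊤ := by
    rw [eq_top_iff]
    intro s _
    obtain ⟨n, t, ht⟩ := (Ega1.QCohLoc.isLocAt_of_qcqs hM (V := ⊤) isCompact_univ
      (isQuasiSeparated_univ (α := X)) r).surj s
    have hu : IsUnit (Ega1.QCohLoc.resO (X.basicOpen_le r) r ^ n) :=
      (X.toRingedSpace.isUnit_res_basicOpen r).pow n
    obtain ⟨v, hv⟩ := hu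
    have h1 : s = (↑(v⁻¹) : Γ(X, X.basicOpen r)) • Ega1.QCohLoc.res M (X.basicOpen_le r) t := by
      rw [ht, ← hv, ← mul_smul, Units.inv_mul, one_smul]
    rw [h1]
    exact Submodule.smul_mem _ _ (Submodule.subset_span ⟨t, rfl⟩)
  have hfin : Module.Finite Γ(X, X.basicOpen r) Γ(M, X.basicOpen r) :=
    Groth.Agent.CohqB.FiniteType2.finite_sections_of_isFT M hft hr
  have hfg : (Submodule.span Γ(X, X.basicOpen r) (Set.range (Ega1.QCohLoc.res M (X.basicOpen_le r)))).FG := by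
    rw [hspan]
    exact hfin.fg_top
  obtain ⟨s', hs', he⟩ := (Submodule.fg_span_iff_fg_span_finset_subset _).1 hfg
  choose g hg using fun y : s' => hs' y.2
  refine ⟨X.basicOpen r, Finset.univ.image g, hxr, hr, ?_⟩
  have h2 : Ega1.QCohLoc.res M (le_top : X.basicOpen r ≤ ⊤) '' ((Finset.univ.image g : Finset Γ(M, ⊤)) : Set Γ(M, ⊤)) =
      (s' : Set _) := by
    ext y
    constructor
    · rintro ⟨m, hm, rfl⟩
      obtain ⟨y, -, rfl⟩ := Finset.mem_image.1 (Finset.mem_coe.1 hm)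
      have := hg y
      rw [this]
      exact y.2
    · intro hy
      exact ⟨g ⟨y, hy⟩, Finset.mem_coe.2 (Finset.mem_image.2 ⟨⟨y, hy⟩, Finset.mem_univ _, rfl⟩), hg ⟨y, hy⟩⟩
  rw [h2, ← he, hspan]

/-- Finitely many global sections generate. -/
theorem exists_gen_sections [X.IsQuasiAffine] (hM : Coh.IsQCoh M) (hft : CohB1.IsFT M) :
    ∃ s : Finset Γ(M, ⊤), ∀ p : X, ∃ D : X.Opens, p ∈ D ∧ IsAffineOpen D ∧
      Submodule.span Γ(X, D) (Ega1.QCohLoc.res M (le_top : D ≤ ⊤) '' (s : Set Γ(M, ⊤))) = ⊤ := by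
  classical
  choose D s h1 h2 h3 using exists_local_gen (X := X) hM hft
  obtain ⟨t, ht⟩ := (isCompact_univ (X := X)).elim_finite_subcover (fun p => (D p : Set X))
    (fun p => (D p).isOpen) (fun p _ => Set.mem_iUnion.2 ⟨p, h1 p⟩)
  refine ⟨t.biUnion s, fun p => ?_⟩
  obtain ⟨q, hq, hp⟩ := Set.mem_iUnion₂.1 (ht (Set.mem_univ p))
  refine ⟨D q, hp, h2 q, ?_⟩
  rw [eq_top_iff, ← h3 q]
  refine Submodule.span_mono (Set.image_mono ?_)
  intro m hm
  exact Finset.mem_coe.2 (Finset.mem_biUnion.2 ⟨q, hq, hm⟩)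

end Sch

section Alg

variable {A B : Type u} [CommRing A] [CommRing B] {M N : Type u} [AddCommGroup M] [Module A M]
  [AddCommGroup N] [Module B N]

theorem span_image_eq_top {φ : A →+* B} {f : M →+ N} (h : IsBC φ f) {s : Set M} (hs : Submodule.span A s = ⊤) :
    Submodule.span B (f '' s) = ⊤ := by
  rw [eq_top_iff, ← K907.Alg.span_range h, Submodule.span_le]
  rintro _ ⟨m, rfl⟩
  have hm : m ∈ Submodule.span A s := by rw [hs]; trivial
  change f m ∈ Submodule.span B (f '' s)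
  induction hm using Submodule.span_induction with
  | mem x hx => exact Submodule.subset_span ⟨x, hx, rfl⟩
  | zero => rw [map_zero]; exact Submodule.zero_mem _
  | add x y _ _ hx hy => rw [map_add]; exact Submodule.add_mem _ hx hy
  | smul r x _ hx => rw [h.map_smul]; exact Submodule.smul_mem _ _ hx

end Alg

variable {S : Scheme.{u}} {𝒳 : BasedCategory.{v, w} (Over S)} [hX : FibCat.IsFibGrpd 𝒳.p]

/-- Generation over an affine open immersion. -/
theorem span_chart (F : QCoh 𝒳) {x η : 𝒳.obj} (φ : η ⟶ x) [IsOpenImmersion (bmap 𝒳 φ)]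
    (hη : IsAffine (sch 𝒳 η)) {D : (sch 𝒳 x).Opens} (hD : (bmap 𝒳 φ).opensRange = D)
    (s : Set Γ(F.obj.obj x, ⊤))
    (hs : Submodule.span Γ(sch 𝒳 x, D) (Ega1.QCohLoc.res (F.obj.obj x) (le_top : D ≤ ⊤) '' s) = ⊤) :
    Submodule.span Γ(sch 𝒳 η, ⊤) (F.obj.mapTop φ '' s) = ⊤ := by
  have hin : InOp φ D := K908.Ext.inOp_of_range (C := ASieve.all 𝒳) (ζ := ⟨η, hη⟩) φ hD
  rw [eq_top_iff]
  intro e he
  clear he
  obtain ⟨t, rfl⟩ := (secX_bijective F φ hD hin).2 e
  have ht : t ∈ Submodule.span Γ(sch 𝒳 x, D) (Ega1.QCohLoc.res (F.obj.obj x) (le_top : D ≤ ⊤) '' s) := by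
    rw [hs]; trivial
  induction ht using Submodule.span_induction with
  | mem y hy =>
    obtain ⟨m, hm, rfl⟩ := hy
    refine Submodule.subset_span ⟨m, hm, ?_⟩
    rw [Ega1.QCohLoc.res_def, secX_res, secX_top]
  | zero => rw [map_zero]; exact Submodule.zero_mem _
  | add x y _ _ hx hy => rw [map_add]; exact Submodule.add_mem _ hx hy
  | smul r x _ hx => rw [secX_smul]; exact Submodule.smul_mem _ _ hx

/-- Generation near all points implies generation over affine objects. -/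
theorem span_eq_top (F : QCoh 𝒳) {x : 𝒳.obj} (s : Set Γ(F.obj.obj x, ⊤))
    (hs : ∀ p : ↥(sch 𝒳 x), ∃ D : (sch 𝒳 x).Opens, p ∈ D ∧ IsAffineOpen D ∧
      Submodule.span Γ(sch 𝒳 x, D) (Ega1.QCohLoc.res (F.obj.obj x) (le_top : D ≤ ⊤) '' s) = ⊤)
    (a : 𝒳.obj) (ha : IsAffine (sch 𝒳 a)) (κ : a ⟶ x) :
    Submodule.span Γ(sch 𝒳 a, ⊤) (F.obj.mapTop κ '' s) = ⊤ := by
  let a₁ : (ASieve.all 𝒳).cat.obj := ⟨a, ha⟩
  have hcov : ZCov a₁ (fun ζ' ψ => ∃ (η : 𝒳.obj) (φ : η ⟶ x) (χ : ζ'.obj ⟶ η), IsAffine (sch 𝒳 η) ∧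
      Submodule.span Γ(sch 𝒳 η, ⊤) (F.obj.mapTop φ '' s) = ⊤ ∧ χ ≫ φ = ψ.hom ≫ κ) := by
    constructor
    · rintro ζ'' ζ' χ ψ ⟨η, φ, χ', h1, h2, h3⟩
      refine ⟨η, φ, χ.hom ≫ χ', h1, h2, ?_⟩
      rw [Category.assoc, h3]
      exact (Category.assoc _ _ _).symm
    · intro z
      obtain ⟨D, hp, hD, hsp⟩ := hs (bmap 𝒳 κ z)
      obtain ⟨η, φ, hφ, hφ'⟩ := K908.Fib.exists_restr (𝒳 := 𝒳) x D
      have hη : IsAffine (sch 𝒳 η) := K908.Fib.isAffine_of_opensRange φ (by rw [hφ']; exact hD)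
      obtain ⟨W, hW, hz, hWD⟩ := exists_isAffineOpen_mem_and_subset (x := z)
        (U := (bmap 𝒳 κ) ⁻¹ᵁ D) hp
      obtain ⟨ζ', ψ, hψ, hψ'⟩ := exists_restr_affine (ASieve.all 𝒳) a₁ W hW
      obtain ⟨χ, hχ⟩ := K908.Fib.exists_lift_open φ (ψ.hom ≫ κ) (by
        rw [bmap_comp]
        rintro _ ⟨y, rfl⟩
        have h5 : bmap 𝒳 ψ.hom y ∈ W := by
          rw [← hψ']
          exact ⟨y, rfl⟩
        have h6 : bmap 𝒳 κ (bmap 𝒳 ψ.hom y) ∈ (bmap 𝒳 φ).opensRange := by
          rw [hφ']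
          exact hWD h5
        exact h6)
      exact ⟨ζ', ψ, hψ, by rw [hψ']; exact hz, η, φ, χ, hη, span_chart F φ hη hφ' s hsp, hχ⟩
  obtain ⟨n, f, hf, hψ⟩ := hcov.exists_basic
  rw [eq_top_iff]
  intro y _
  refine Submodule.mem_of_span_eq_top_of_smul_pow_mem _ (Set.range f) hf y ?_
  rintro ⟨_, i, rfl⟩
  obtain ⟨ζ', ψ, h1, h2, η, φ, χ, hη, h3, h4⟩ := hψ i
  have hζ' : IsAffine (sch 𝒳 ζ'.obj) := ζ'.property
  have h1' : IsOpenImmersion (bmap 𝒳 ψ.hom) := h1
  have h5 : (K907.Alg.ext (resTop F.obj ψ.hom) (Submodule.span Γ(sch 𝒳 a, ⊤) (F.obj.mapTop κ '' s)) :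
      Submodule Γ(sch 𝒳 ζ'.obj, ⊤) Γ(F.obj.obj ζ'.obj, ⊤)) = ⊤ := by
    rw [eq_top_iff, ← span_image_eq_top (isBC_resTop F χ) h3, Submodule.span_le]
    rintro _ ⟨_, ⟨m, hm, rfl⟩, rfl⟩
    have h6 : resTop F.obj χ (F.obj.mapTop φ m) = resTop F.obj ψ.hom (F.obj.mapTop κ m) := by
      rw [resTop_apply, resTop_apply, ← Mod.mapTop_comp, ← Mod.mapTop_comp, h4]
    rw [h6]
    exact K907.Alg.mem_ext _ (Submodule.subset_span ⟨m, hm, rfl⟩)
  have h7 := (K908.GlueAlg.isBC_away (ringMap ψ.hom) (f i)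
    (isLocalization_appTop (bmap 𝒳 ψ.hom) (f i) h2)
    (K907.Alg.isBC_quotMap (isBC_resTop F ψ.hom) (Submodule.span Γ(sch 𝒳 a, ⊤) (F.obj.mapTop κ '' s)))).1
    (Submodule.Quotient.mk y) (by
      rw [K907.Alg.quotMap_mk, Submodule.Quotient.mk_eq_zero, h5]
      trivial)
  obtain ⟨n, hn⟩ := h7
  refine ⟨n, ?_⟩
  rw [← Submodule.Quotient.mk_smul, Submodule.Quotient.mk_eq_zero] at hn
  exact hn

end K159.Gen
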