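import Groth.Agent.StMod.K908.Dense
import Groth.Agent.StMod.K907.Alg
import Groth.Agent.TwSh.K799.LFree
import Groth.Agent.Desc.FinLocFreeSections
import Groth.Prelude.Def_StMod3

/-!
# Local freeness, finite type and surjectivity tested on a dense class of affine objects

`C` a dense class of affine objects (`K908.Desc.Dense C`) of a category fibred in groupoids.
* `isFinLocFree_of_dense`: if the sections of a quasi-coherent `E` over the objects of `C` are finitely presented and
  flat, then `E` is locally free of finite type (`isLocFree_of_dense`, `isFinType_of_dense`);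
* `isSurj_of_dense`: surjectivity of a morphism is tested on `C`.
-/

set_option autoImplicit false
set_option linter.unusedVariables false
set_option linter.style.haveILetI false
set_option backward.isDefEq.respectTransparency false
set_option backward.isDefEq.respectTransparency.types false
set_option linter.dupNamespace false
set_option linter.unusedSectionVars false

universe v w u

open CategoryTheory CategoryTheory.Limits AlgebraicGeometry Opposite TopologicalSpace StMod
open Groth.Agent.CohqA.BaseChangeMod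
open scoped TensorProduct

namespace K159.LocFree

open K908.AMod K908.QHom K908.QSec K908.Desc K908.Fam K907.Sec

section Alg

/-- Finite presentation and flatness descend along faithfully flat base changes. -/
theorem fpFlat_of_isBC {A B : Type u} [CommRing A] [CommRing B] {φ : A →+* B} (hφ : φ.FaithfullyFlat)
    {M N : Type u} [AddCommGroup M] [Module A M] [AddCommGroup N] [Module B N] {f : M →+ N} (h : IsBC φ f)
    (h1 : Module.FinitePresentation B N) (h2 : Module.Flat B N) :
    Module.FinitePresentation A M ∧ Module.Flat A M := by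
  letI := φ.toAlgebra
  haveI : Module.FaithfullyFlat A B := hφ
  letI : Module A N := Module.compHom N φ
  haveI : IsScalarTower A B N := ⟨fun a b m => by
      change (φ a * b) • m = φ a • b • m
      rw [mul_smul]⟩
  let f' : M →ₗ[A] N := { toFun := f, map_add' := f.map_add, map_smul' := h.map_smul }
  have h3 : IsBaseChange B f' := (isBC_iff_isBaseChange f').1 h
  have h4 : Module.FinitePresentation B (B ⊗[A] M) := Module.FinitePresentation.of_equiv h3.equiv.symm
  have h5 : Module.Flat B (B ⊗[A] M) := Module.Flat.of_linearEquiv h3.equiv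
  exact ⟨Groth.Agent.Desc.FinLocFreeSections.finitePresentation_of_tensorProduct A B M,
    Module.Flat.of_flat_tensorProduct A M B⟩

theorem faithfullyFlat_of_bijective {A B : Type u} [CommRing A] [CommRing B] {φ : A →+* B}
    (hφ : Function.Bijective φ) : φ.FaithfullyFlat := by
  exact RingHom.FaithfullyFlat.of_bijective hφ

end Alg

variable {S : Scheme.{u}} {𝒳 : BasedCategory.{v, w} (Over S)} [hX : FibCat.IsFibGrpd 𝒳.p] {C : ASieve 𝒳}

/-- Sections of a quasi-coherent module over an affine open in terms of an object over it. -/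
theorem isFinLocFree_of_dense (hC : Dense C) (E : QCoh 𝒳)
    (h : ∀ ζ : C.cat.obj, Module.FinitePresentation Γ(sch 𝒳 ζ.obj, ⊤) Γ(E.obj.obj ζ.obj, ⊤) ∧
      Module.Flat Γ(sch 𝒳 ζ.obj, ⊤) Γ(E.obj.obj ζ.obj, ⊤)) (ξ : 𝒳.obj) : FlatMod.IsFinLocFree (E.obj.obj ξ) := by
  rw [Groth.Agent.Desc.FinLocFreeSections.isFinLocFree_iff_of_cover (E.property.2 ξ) (fun _ => True) (fun x => by
    obtain ⟨V, hV, hx, -⟩ := exists_isAffineOpen_mem_and_subset (x := x) (U := ⊤) trivial
    exact ⟨V, trivial, hV, hx⟩)]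
  intro V _ hV
  obtain ⟨η, φ, hφ, hφ'⟩ := K908.Fib.exists_restr (𝒳 := 𝒳) ξ V
  have hη : IsAffine (sch 𝒳 η) := K908.Fib.isAffine_of_opensRange φ (by rw [hφ']; exact hV)
  obtain ⟨ζ, c, hc⟩ := hC η hη
  have hζ : IsAffine (sch 𝒳 ζ.obj) := C.aff ζ.property
  obtain ⟨h1, h2⟩ := fpFlat_of_isBC (ringMap_faithfullyFlat c hc) (isBC_resTop E c) (h ζ).1 (h ζ).2
  have hin : InOp φ V := K908.Ext.inOp_of_range (C := ASieve.all 𝒳) (ζ := ⟨η, hη⟩) φ hφ'
  have h3 : Function.Bijective ((bmap 𝒳 φ).appLE V ⊤ hin).hom :=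
    K908.Ext.appLE_bijective (C := ASieve.all 𝒳) (ζ := ⟨η, hη⟩) φ hφ'
  have h4 : IsBC ((bmap 𝒳 φ).appLE V ⊤ hin).hom (secX E.obj φ V hin) :=
    IsBC.of_bijective _ h3 _ (secX_bijective E φ hφ' hin) (fun r x => secX_smul E.obj φ V hin r x)
  exact fpFlat_of_isBC (faithfullyFlat_of_bijective h3) h4 h1 h2

theorem isLocFree_of_dense (hC : Dense C) (E : QCoh 𝒳)
    (h : ∀ ζ : C.cat.obj, Module.FinitePresentation Γ(sch 𝒳 ζ.obj, ⊤) Γ(E.obj.obj ζ.obj, ⊤) ∧
      Module.Flat Γ(sch 𝒳 ζ.obj, ⊤) Γ(E.obj.obj ζ.obj, ⊤)) : E.obj.IsLocFree := fun ξ =>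
  K799.LFree.isLocallyFree_of (isFinLocFree_of_dense hC E h ξ)

theorem isFinType_of_dense (hC : Dense C) (E : QCoh 𝒳)
    (h : ∀ ζ : C.cat.obj, Module.FinitePresentation Γ(sch 𝒳 ζ.obj, ⊤) Γ(E.obj.obj ζ.obj, ⊤) ∧
      Module.Flat Γ(sch 𝒳 ζ.obj, ⊤) Γ(E.obj.obj ζ.obj, ⊤)) : E.obj.IsFinType := fun ξ =>
  K799.LFree.isFT_of (isFinLocFree_of_dense hC E h ξ)

/-- Surjectivity is tested on a dense class. -/
theorem isSurj_of_dense (hC : Dense C) {E F : QCoh 𝒳} (q : E.obj ⟶ F.obj)
    (h : ∀ ζ : C.cat.obj, Function.Surjective ((q.app ζ.obj).app ⊤)) : Mod.IsSurj q := by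
  intro ξ hξ
  obtain ⟨ζ, c, hc⟩ := hC ξ hξ
  have hζ : IsAffine (sch 𝒳 ζ.obj) := C.aff ζ.property
  let R : Submodule Γ(sch 𝒳 ξ, ⊤) Γ(F.obj.obj ξ, ⊤) :=
    LinearMap.range ({ ((q.app ξ).app ⊤).hom with map_smul' := fun r x => Scheme.Modules.Hom.app_smul (q.app ξ) r x } :
      Γ(E.obj.obj ξ, ⊤) →ₗ[Γ(sch 𝒳 ξ, ⊤)] Γ(F.obj.obj ξ, ⊤))
  have key : ∀ e : Γ(E.obj.obj ζ.obj, ⊤), (q.app ζ.obj).app ⊤ e ∈
      (K907.Alg.ext (resTop F.obj c) R : Submodule Γ(sch 𝒳 ζ.obj, ⊤) Γ(F.obj.obj ζ.obj, ⊤)) := by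
    intro e
    have he : e ∈ Submodule.span Γ(sch 𝒳 ζ.obj, ⊤) (Set.range (resTop E.obj c)) := by
      rw [K907.Alg.span_range (isBC_resTop E c)]
      trivial
    induction he using Submodule.span_induction with
    | mem x hx =>
      obtain ⟨y, rfl⟩ := hx
      rw [resTop_apply, ← Mod.mapTop_app]
      exact K907.Alg.mem_ext (resTop F.obj c) ⟨y, rfl⟩
    | zero =>
      rw [map_zero]
      exact Submodule.zero_mem _
    | add x y _ _ hx hy =>
      rw [map_add]
      exact Submodule.add_mem _ hx hy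
    | smul r x _ hx =>
      rw [Scheme.Modules.Hom.app_smul]
      exact Submodule.smul_mem _ _ hx
  intro y
  obtain ⟨e, he⟩ := h ζ (F.obj.mapTop c y)
  have h1 : resTop F.obj c y ∈
      (K907.Alg.ext (resTop F.obj c) R : Submodule Γ(sch 𝒳 ζ.obj, ⊤) Γ(F.obj.obj ζ.obj, ⊤)) := by
    rw [resTop_apply, ← he]
    exact key e
  exact K907.Alg.mem_of_mem_ext (ringMap_faithfullyFlat c hc) (isBC_resTop F c) h1

end K159.LocFree
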