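import Groth.Agent.StMod.K159.Bundle
import Groth.Agent.StMod.K159.LocFree
import Groth.Agent.StMod.K159.Gen

/-!
# The resolution property of `[X/G]` for `X` quasi-affine over a field
-/

set_option autoImplicit false
set_option linter.unusedVariables false
set_option linter.style.haveILetI false
set_option backward.isDefEq.respectTransparency false
set_option backward.isDefEq.respectTransparency.types false
set_option linter.dupNamespace false
set_option linter.unusedSectionVars false

universe v w u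

open CategoryTheory CategoryTheory.Limits MonoidalCategory CartesianMonoidalCategory AlgebraicGeometry
open Opposite TopologicalSpace StMod AlgSt
open Groth.Agent.CohqA.BaseChangeMod

namespace K159.ResQ

open K159.Exp K159.Tors K159.Coact K159.Rep K159.Bundle K908.AMod K908.QHom K908.QSec

variable {k : Type u} [Field k] {G : Over (Spec (CommRingCat.of k))} [GrpObj G] {X : Over (Spec (CommRingCat.of k))}
  {aX : AlgGrp.Action G X}

/-- Composition with an evaluation map. -/
noncomputable def comp {𝒞 : BasedCategory.{v, w} (Over (Spec (CommRingCat.of k)))} {M N P : AMod 𝒞} (s : AHom M N)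
    (t : AHom N P) : AHom M P where
  app ξ := (t.app ξ).comp (s.app ξ)
  comm φ x := by
    change t.app _ (s.app _ (M.map φ x)) = P.map φ (t.app _ (s.app _ x))
    rw [s.comm, t.comm]

theorem exists_resolution [IsAffineHom G.hom] [Flat G.hom] [X.left.IsQuasiAffine] (F : QCoh (QS aX))
    (hF : F.obj.IsFinType) :
    ∃ (E : QCoh (QS aX)) (q : E ⟶ F), E.obj.IsLocFree ∧ E.obj.IsFinType ∧ Mod.IsSurj q.hom := by
  haveI hX := hQ aX
  have hG : IsAffine G.left := isAffine_of_isAffineHom G.hom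
  have hXc : CompactSpace X.left := inferInstance
  have hqa : (sch (QS aX) (XX aX)).IsQuasiAffine := ‹X.left.IsQuasiAffine›
  obtain ⟨s, hs⟩ := K159.Gen.exists_gen_sections (X := sch (QS aX) (XX aX)) (F.property.2 (XX aX)) (hF (XX aX))
  obtain ⟨W, hWf, hW, hWg⟩ := exists_stable F hG hXc (fun i : Fin s.card => (s.equivFin.symm i : Γ(F.obj.obj (XX aX), ⊤)))
  let B := Module.finBasis k W
  obtain ⟨C, hC⟩ := exists_matrix hW B
  let w : Fin (Module.finrank k W) → Γ(F.obj.obj (XX aX), ⊤) := fun j => (toKM F.obj _).symm (B j)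
  have hw : LinearIndependent k (fun l => toKM F.obj (XX aX) (w l)) :=
    B.linearIndependent.map' W.subtype (Submodule.ker_subtype W)
  have hR : IsRep C := by
    refine ⟨fun hT g h => ?_, fun hT => ?_⟩
    · ext i j
      rw [Matrix.mul_apply]
      exact matrix_mul hw hC hT g h i j
    · ext i j
      rw [Matrix.one_apply]
      exact matrix_one hw hC hT i j
  obtain ⟨E, t, ht⟩ := K908.Desc.exists_qcoh dense_triv (bun aX hR) (bun_isCart aX hR)
  obtain ⟨u, hu⟩ := K908.Dense.exists_hom dense_triv (comp t (evB aX hR F w hC))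
  -- generation
  have hgen : ∀ (A : (QS aX).obj) (hA : IsAffine (sch (QS aX) A)) (κ : A ⟶ XX aX),
      Submodule.span Γ(sch (QS aX) A, ⊤) (Set.range fun l => F.obj.mapTop κ (w l)) = ⊤ := by
    intro A hA κ
    rw [eq_top_iff, ← K159.Gen.span_eq_top F (s : Set Γ(F.obj.obj (XX aX), ⊤)) hs A hA κ, Submodule.span_le]
    rintro _ ⟨m, hm, rfl⟩
    have h1 := hWg (s.equivFin ⟨m, hm⟩) A κ
    rw [Equiv.symm_apply_apply] at h1
    refine Submodule.span_le.2 ?_ h1
    rintro _ ⟨v, hv, rfl⟩
    have h2 := congrArg (fun w : W => (toKM F.obj _).symm (w : KM F.obj (XX aX))) (B.sum_repr ⟨v, hv⟩)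
    simp only [Submodule.coe_sum, Submodule.coe_smul, map_sum] at h2
    have h3 : F.obj.mapTop κ ((toKM F.obj (XX aX)).symm v) = _ := (congrArg (F.obj.mapTop κ) h2.symm)
    rw [h3, mapTop_sum]
    refine Submodule.sum_mem _ fun l _ => ?_
    have h4 : F.obj.mapTop κ ((toKM F.obj (XX aX)).symm (B.repr ⟨v, hv⟩ l • (B l : KM F.obj (XX aX)))) =
      sx A (B.repr ⟨v, hv⟩ l) • F.obj.mapTop κ (w l) := mapTop_ks F.obj κ _ _
    rw [h4]
    exact Submodule.smul_mem _ _ (Submodule.subset_span ⟨l, rfl⟩)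
  have hfree : ∀ ζ : (C0 aX).cat.obj,
      Module.FinitePresentation Γ(sch (QS aX) ζ.obj, ⊤) Γ(E.obj.obj ζ.obj, ⊤) ∧
      Module.Flat Γ(sch (QS aX) ζ.obj, ⊤) Γ(E.obj.obj ζ.obj, ⊤) := by
    intro ζ
    let e : Γ(E.obj.obj ζ.obj, ⊤) ≃ₗ[Γ(sch (QS aX) ζ.obj, ⊤)]
      (Fin (Module.finrank k W) → Γ(sch (QS aX) ζ.obj, ⊤)) := LinearEquiv.ofBijective (t.app ζ) (ht ζ)
    exact ⟨Module.FinitePresentation.of_equiv e.symm, Module.Flat.of_linearEquiv e⟩
  refine ⟨E, ObjectProperty.homMk u, K159.LocFree.isLocFree_of_dense dense_triv E hfree,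
    K159.LocFree.isFinType_of_dense dense_triv E hfree, K159.LocFree.isSurj_of_dense dense_triv u ?_⟩
  intro ζ y
  have h1 : y ∈ LinearMap.range (Fintype.linearCombination Γ(sch (QS aX) ζ.obj, ⊤)
      (fun l => F.obj.mapTop (kap ζ) (w l))) := by
    rw [Fintype.range_linearCombination, hgen ζ.obj ζ.property.1 (kap ζ)]
    trivial
  obtain ⟨x, hx⟩ := h1
  obtain ⟨e, he⟩ := (ht ζ).2 x
  refine ⟨e, (hu ζ e).trans ?_⟩
  change (evB aX hR F w hC).app ζ (t.app ζ e) = y
  rw [he]
  exact hx

end K159.ResQ
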