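import Groth.Agent.StMod.K159.Rep
import Groth.Agent.AlgSt.K744.TorsProp
import Mathlib.LinearAlgebra.Matrix.ToLin

/-!
# The vector bundle on `[X/G]` of a matrix representation, and its evaluation map

* `dense_triv`: the affine objects with an arrow to the canonical object are dense;
* `exists_bundle`: for a matrix `C` of functions on `G` with `C(g h) = C(h) C(g)`, `C(1) = 1`, and sections `w` with
  `(g • κ)^* w j = ∑ C(g) i j κ^* (w i)`: a quasi-coherent module `E` free of rank `n` on trivial torsors and a morphism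
  `E ⟶ F` with image generated by the `w i`.
-/

set_option autoImplicit false
set_option linter.unusedVariables false
set_option linter.style.haveILetI false
set_option backward.isDefEq.respectTransparency false
set_option backward.isDefEq.respectTransparency.types false
set_option linter.dupNamespace false
set_option linter.unusedSectionVars false

universe v w u

open CategoryTheory CategoryTheory.Limits MonoidalCategory CartesianMonoidalCategory AlgebraicGeometry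
open Opposite TopologicalSpace StMod AlgSt
open Groth.Agent.CohqA.BaseChangeMod

namespace K159.Bundle

open K159.Exp K159.Tors K159.Coact K159.Rep K908.AMod K908.QHom K908.QSec
open scoped MonObj

section Alg

/-- The base change of a finite free module followed by an automorphism. -/
theorem isBC_mulVec {A B : Type u} [CommRing A] [CommRing B] (φ : A →+* B) {n : ℕ} (M N : Matrix (Fin n) (Fin n) B)
    (h1 : M * N = 1) (h2 : N * M = 1) (f : (Fin n → A) →+ (Fin n → B)) (hf : ∀ x, f x = M.mulVec fun i => φ (x i)) :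
    IsBC φ f := by
  let p : (Fin n → A) →+ (Fin n → B) :=
    { toFun := fun x i => φ (x i)
      map_zero' := funext fun i => map_zero φ
      map_add' := fun x y => funext fun i => map_add φ _ _ }
  have hp : IsBC φ p := by
    letI : Algebra A B := φ.toAlgebra
    have h := (isBC_iff_isBaseChange (A := A) (B := B) ((Algebra.linearMap A B).compLeft (Fin n))).2
      ((IsBaseChange.linearMap A B).finitePow (Fin n))
    exact h
  let e : (Fin n → B) ≃ₗ[B] (Fin n → B) := LinearEquiv.ofLinearMap M.mulVecLin N.mulVecLin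
    (by rw [← Matrix.mulVecLin_mul, h1, Matrix.mulVecLin_one]) (by rw [← Matrix.mulVecLin_mul, h2, Matrix.mulVecLin_one])
  exact hp.of_equiv e fun x => (hf x).symm

end Alg

variable {k : Type u} [Field k] {G : Over (Spec (CommRingCat.of k))} [GrpObj G] {X : Over (Spec (CommRingCat.of k))}
  {aX : AlgGrp.Action G X}

variable (aX) in
/-- Affine objects with an arrow to the canonical object. -/
noncomputable def C0 : ASieve (QS aX) where
  P A := IsAffine (sch (QS aX) A) ∧ Nonempty (A ⟶ XX aX)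
  aff _ h := h.1
  down _ _ φ h h' := ⟨h', ⟨φ ≫ h.2.some⟩⟩

/-- They are dense. -/
theorem dense_triv [IsAffineHom G.hom] [Flat G.hom] : K908.Desc.Dense (C0 aX) := by
  intro A hA
  have hA' : IsAffine A.base.left := hA
  have := K744.TorsProp.isAffineHom_of_torsor A
  have := K744.TorsProp.flat_of_torsor A
  have := K744.TorsProp.surjective_of_torsor A
  have hP : IsAffine A.P.left := isAffine_of_isAffineHom A.π.left
  let c : tr Scheme.fppfPrecoverage aX A.φ ⟶ A := K744.Quot.tau A (ptX A.φ) (𝟙 A.P) (Category.id_comp _)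
  have hb : c.base = A.π := Category.id_comp _
  refine ⟨⟨tr Scheme.fppfPrecoverage aX A.φ, hP, ⟨trX Scheme.fppfPrecoverage aX A.φ⟩⟩, c, ?_, ?_⟩
  · change Flat c.base.left
    rw [hb]
    infer_instance
  · change Surjective c.base.left
    rw [hb]
    infer_instance

/-- The chosen arrow. -/
noncomputable def kap (ζ : (C0 aX).cat.obj) : ζ.obj ⟶ XX aX := ζ.property.2.some

/-- The group element attached to an arrow. -/
noncomputable def gg {ζ' ζ : (C0 aX).cat.obj} (φ : ζ' ⟶ ζ) : ζ'.obj.base ⟶ G :=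
  (exists_sm_eq (kap ζ') (φ.hom ≫ kap ζ)).choose

theorem gg_spec {ζ' ζ : (C0 aX).cat.obj} (φ : ζ' ⟶ ζ) : sm (gg φ) (kap ζ') = φ.hom ≫ kap ζ :=
  (exists_sm_eq (kap ζ') (φ.hom ≫ kap ζ)).choose_spec

theorem gg_id (ζ : (C0 aX).cat.obj) : gg (𝟙 ζ) = 1 := by
  apply sm_injective (kap ζ)
  rw [gg_spec, one_sm]
  exact Category.id_comp _

theorem gg_comp {ζ'' ζ' ζ : (C0 aX).cat.obj} (ψ : ζ'' ⟶ ζ') (φ : ζ' ⟶ ζ) :
    gg (ψ ≫ φ) = (ψ.hom.base ≫ gg φ) * gg ψ := by
  apply sm_injective (kap ζ'')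
  rw [gg_spec, mul_sm, gg_spec, ← comp_sm, gg_spec]
  exact Category.assoc _ _ _

variable {n : ℕ} (C : Fin n → Fin n → Γ(G.left, ⊤))

/-- The matrix at a point. -/
noncomputable def Cm {T : Over (Spec (CommRingCat.of k))} (g : T ⟶ G) : Matrix (Fin n) (Fin n) Γ(T.left, ⊤) :=
  Matrix.of fun i j => g.left.appTop (C i j)

theorem Cm_apply {T : Over (Spec (CommRingCat.of k))} (g : T ⟶ G) (i j : Fin n) :
    Cm C g i j = g.left.appTop (C i j) := rfl

theorem Cm_comp {T' T : Over (Spec (CommRingCat.of k))} (f : T' ⟶ T) (g : T ⟶ G) :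
    Cm C (f ≫ g) = (Cm C g).map f.left.appTop.hom := by
  ext i j
  change (f ≫ g).left.appTop (C i j) = f.left.appTop (g.left.appTop (C i j))
  rw [Over.comp_left, Scheme.Hom.comp_appTop]
  rfl

/-- The transition matrix. -/
noncomputable def CM {ζ' ζ : (C0 aX).cat.obj} (φ : ζ' ⟶ ζ) : Matrix (Fin n) (Fin n) Γ(sch (C0 aX).cat ζ', ⊤) :=
  Cm C (gg φ)

theorem CM_eq {ζ' ζ : (C0 aX).cat.obj} (φ : ζ' ⟶ ζ) (i j : Fin n) :
    CM C φ i j = pf (𝒳 := QS aX) (gg φ) (C i j) := rfl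

/-- The matrices form a representation. -/
structure IsRep : Prop where
  mul : ∀ {T : Over (Spec (CommRingCat.of k))} (hT : IsAffine T.left) (g h : T ⟶ G), Cm C (g * h) = Cm C h * Cm C g
  one : ∀ {T : Over (Spec (CommRingCat.of k))} (hT : IsAffine T.left), Cm C (1 : T ⟶ G) = 1

variable {C} (hR : IsRep C)

include hR in
theorem CM_id (ζ : (C0 aX).cat.obj) : CM C (𝟙 ζ) = 1 := by
  have h1 : Cm C (gg (𝟙 ζ)) = 1 := by
    rw [gg_id, hR.one ζ.property.1]
  exact h1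

include hR in
theorem CM_comp {ζ'' ζ' ζ : (C0 aX).cat.obj} (ψ : ζ'' ⟶ ζ') (φ : ζ' ⟶ ζ) :
    CM C (ψ ≫ φ) = CM C ψ * (CM C φ).map (bmap (C0 aX).cat ψ).appTop.hom := by
  have h1 : Cm C (gg (ψ ≫ φ)) = Cm C (gg ψ) * (Cm C (gg φ)).map ψ.hom.base.left.appTop.hom := by
    rw [gg_comp, hR.mul ζ''.property.1, Cm_comp]
    rfl
  exact h1

include hR in
theorem CM_inv {ζ' ζ : (C0 aX).cat.obj} (φ : ζ' ⟶ ζ) :
    ∃ N : Matrix (Fin n) (Fin n) Γ(sch (C0 aX).cat ζ', ⊤), CM C φ * N = 1 ∧ N * CM C φ = 1 := by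
  refine ⟨(Cm C (gg φ)⁻¹ : Matrix (Fin n) (Fin n) Γ(ζ'.obj.base.left, ⊤)), ?_, ?_⟩
  · have h1 : Cm C (gg φ) * Cm C (gg φ)⁻¹ = 1 := by
      rw [← hR.mul ζ'.property.1, inv_mul_cancel, hR.one ζ'.property.1]
    exact h1
  · have h1 : Cm C (gg φ)⁻¹ * Cm C (gg φ) = 1 := by
      rw [← hR.mul ζ'.property.1, mul_inv_cancel, hR.one ζ'.property.1]
    exact h1

/-- Pullback of vectors. -/
noncomputable def pv {ζ' ζ : (C0 aX).cat.obj} (φ : ζ' ⟶ ζ) :
    (Fin n → Γ(sch (C0 aX).cat ζ, ⊤)) →+ (Fin n → Γ(sch (C0 aX).cat ζ', ⊤)) where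
  toFun x i := (bmap (C0 aX).cat φ).appTop (x i)
  map_zero' := funext fun i => map_zero _
  map_add' := fun x y => funext fun i => map_add _ _ _

theorem pv_comp {ζ'' ζ' ζ : (C0 aX).cat.obj} (ψ : ζ'' ⟶ ζ') (φ : ζ' ⟶ ζ) (x : Fin n → Γ(sch (C0 aX).cat ζ, ⊤)) :
    pv (ψ ≫ φ) x = pv ψ (pv φ x) := by
  ext j
  change (bmap (C0 aX).cat (ψ ≫ φ)).appTop (x j) = (bmap (C0 aX).cat ψ).appTop ((bmap (C0 aX).cat φ).appTop (x j))
  rw [bmap_comp, Scheme.Hom.comp_appTop]
  rfl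

theorem pv_mulVec {ζ' ζ : (C0 aX).cat.obj} (φ : ζ' ⟶ ζ) (M : Matrix (Fin n) (Fin n) Γ(sch (C0 aX).cat ζ, ⊤))
    (x : Fin n → Γ(sch (C0 aX).cat ζ, ⊤)) :
    pv φ (M.mulVec x) = (M.map (bmap (C0 aX).cat φ).appTop.hom).mulVec (pv φ x) := by
  ext i
  exact RingHom.map_mulVec (bmap (C0 aX).cat φ).appTop.hom M x i

theorem pv_smul {ζ' ζ : (C0 aX).cat.obj} (φ : ζ' ⟶ ζ) (r : Γ(sch (C0 aX).cat ζ, ⊤))
    (x : Fin n → Γ(sch (C0 aX).cat ζ, ⊤)) : pv φ (r • x) = (bmap (C0 aX).cat φ).appTop r • pv φ x := by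
  ext i
  exact map_mul (bmap (C0 aX).cat φ).appTop.hom r (x i)

/-- The family of free modules with the twisted restriction maps. -/
noncomputable def bun (aX : AlgGrp.Action G X) (hR : IsRep C) : AMod (C0 aX).cat where
  obj ζ := Fin n → Γ(sch (C0 aX).cat ζ, ⊤)
  map {ζ' ζ} φ := (Matrix.mulVecLin (CM C φ)).toAddMonoidHom.comp (pv φ)
  map_smul {ζ' ζ} φ r x := by
    change (CM C φ).mulVec (pv φ (r • x)) = (bmap (C0 aX).cat φ).appTop r • (CM C φ).mulVec (pv φ x)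
    rw [← Matrix.mulVec_smul, ← pv_smul]
  map_id ζ x := by
    change (CM C (𝟙 ζ)).mulVec (pv (𝟙 ζ) x) = x
    rw [CM_id hR, Matrix.one_mulVec]
    ext i
    change (bmap (C0 aX).cat (𝟙 ζ)).appTop (x i) = x i
    rw [bmap_id, Scheme.Hom.id_appTop]
    rfl
  map_comp {ζ'' ζ' ζ} ψ φ x := by
    change (CM C (ψ ≫ φ)).mulVec (pv (ψ ≫ φ) x) = (CM C ψ).mulVec (pv ψ ((CM C φ).mulVec (pv φ x)))
    rw [CM_comp hR, ← Matrix.mulVec_mulVec, pv_comp, pv_mulVec]

theorem bun_map (aX : AlgGrp.Action G X) (hR : IsRep C) {ζ' ζ : (C0 aX).cat.obj} (φ : ζ' ⟶ ζ)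
    (x : Fin n → Γ(sch (C0 aX).cat ζ, ⊤)) : (bun aX hR).map φ x = (CM C φ).mulVec (pv φ x) := rfl

theorem bun_isCart (aX : AlgGrp.Action G X) (hR : IsRep C) : (bun aX hR).IsCart := by
  intro ζ' ζ φ
  obtain ⟨N, h1, h2⟩ := CM_inv hR φ
  exact isBC_mulVec (bmap (C0 aX).cat φ).appTop.hom (CM C φ) N h1 h2 ((bun aX hR).map φ) (fun x => rfl)

/-- The evaluation map. -/
noncomputable def evB (aX : AlgGrp.Action G X) (hR : IsRep C) (F : QCoh (QS aX)) (w : Fin n → Γ(F.obj.obj (XX aX), ⊤))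
    (hC : ∀ (j : Fin n) (A : (QS aX).obj) (κ : A ⟶ XX aX) (h : A.base ⟶ G),
      F.obj.mapTop (sm h κ) (w j) = ∑ l, pf (𝒳 := QS aX) h (C l j) • F.obj.mapTop κ (w l)) :
    AHom (bun aX hR) (rest F.obj (C0 aX)) where
  app ζ := (Fintype.linearCombination Γ(sch (QS aX) ζ.obj, ⊤) (fun l => F.obj.mapTop (kap ζ) (w l)) :
    (Fin n → Γ(sch (QS aX) ζ.obj, ⊤)) →ₗ[Γ(sch (QS aX) ζ.obj, ⊤)] Γ(F.obj.obj ζ.obj, ⊤))
  comm {ζ' ζ} φ x := by
    change (Fintype.linearCombination Γ(sch (QS aX) ζ'.obj, ⊤) (fun l => F.obj.mapTop (kap ζ') (w l)) :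
      (Fin n → Γ(sch (QS aX) ζ'.obj, ⊤)) →ₗ[Γ(sch (QS aX) ζ'.obj, ⊤)] Γ(F.obj.obj ζ'.obj, ⊤))
        ((CM C φ).mulVec (pv φ x)) = F.obj.mapTop φ.hom
      ((Fintype.linearCombination Γ(sch (QS aX) ζ.obj, ⊤) (fun l => F.obj.mapTop (kap ζ) (w l)) :
        (Fin n → Γ(sch (QS aX) ζ.obj, ⊤)) →ₗ[Γ(sch (QS aX) ζ.obj, ⊤)] Γ(F.obj.obj ζ.obj, ⊤)) x)
    rw [Fintype.linearCombination_apply, Fintype.linearCombination_apply, mapTop_sum]
    have h1 : ∀ j, F.obj.mapTop φ.hom (x j • F.obj.mapTop (kap ζ) (w j)) =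
        ∑ l, (CM C φ l j * pv φ x j) • F.obj.mapTop (kap ζ') (w l) := by
      intro j
      rw [Mod.mapTop_smul, ← Mod.mapTop_comp, ← gg_spec, hC, Finset.smul_sum]
      refine Finset.sum_congr rfl fun l _ => ?_
      rw [← mul_smul, mul_comm]
      rfl
    simp only [h1]
    rw [Finset.sum_comm]
    refine Finset.sum_congr rfl fun l _ => ?_
    rw [← Finset.sum_smul]
    rfl

end K159.Bundle
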