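import Groth.Agent.AlgSt.K736.QuotTriv

/-!
# The torsor of arrows to the canonical object of `[X/G]`

`X0 : [X/G]` is the image of the identity of `X`; for an object `A` the group `G(A.base)` acts on the arrows `A ⟶ X0`
simply transitively: `sm g κ`, `comp_sm`, `mul_sm`, `one_sm`, `exists_sm_eq`, `sm_injective`.
-/

set_option autoImplicit false
set_option backward.isDefEq.respectTransparency false
set_option backward.isDefEq.respectTransparency.types false

universe u

open CategoryTheory CategoryTheory.Limits MonoidalCategory CartesianMonoidalCategory MonObj GrpObj AlgebraicGeometry AlgSt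

namespace K159.Tors

open K736.QuotTriv

variable {S : Scheme.{u}} {K : Precoverage Scheme.{u}} [K.HasIsos] {G : Over S} [GrpObj G] {X : Over S}
  {aX : AlgGrp.Action G X}

/-- The object of `ofSch X` given by a point. -/
noncomputable def ptX {T : Over S} (x : T ⟶ X) : (ofSch X).obj := ⟨T, ⟨x⟩⟩

variable (K aX) in
/-- The trivial object attached to a point of `X`. -/
noncomputable def tr {T : Over S} (x : T ⟶ X) : QuotObj K G aX := (quotMap K G aX).obj (ptX x)

variable (K aX) in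
/-- The canonical object over `X`. -/
noncomputable abbrev X0 : QuotObj K G aX := tr K aX (𝟙 X)

theorem tr_base {T : Over S} (x : T ⟶ X) : (tr K aX x).base = T := rfl

variable {A : QuotObj K G aX}

/-- The morphism of total spaces. -/
noncomputable def tp (κ : A ⟶ X0 K aX) : A.P ⟶ G ⊗ X := κ.top

/-- The morphism of bases. -/
noncomputable def bs (κ : A ⟶ X0 K aX) : A.base ⟶ X := κ.base

/-- The group coordinate of an arrow to `X0`. -/
noncomputable def uu (κ : A ⟶ X0 K aX) : A.P ⟶ G := tp κ ≫ fst G X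

theorem tp_snd (κ : A ⟶ X0 K aX) : tp κ ≫ snd G X = A.π ≫ bs κ := κ.cart.w

theorem tp_eqv (κ : A ⟶ X0 K aX) : A.act.act ≫ tp κ = (G ◁ tp κ) ≫ (leftMul G X).act := κ.eqv

theorem tp_wφ (κ : A ⟶ X0 K aX) : tp κ ≫ (G ◁ 𝟙 X) ≫ aX.act = A.φ := κ.wφ

theorem tp_cart (κ : A ⟶ X0 K aX) : IsPullback (tp κ) A.π (snd G X) (bs κ) := κ.cart

/-- Constructor of arrows to `X0`. -/
noncomputable def mkX0 (b : A.base ⟶ X) (t : A.P ⟶ G ⊗ X) (h1 : A.act.act ≫ t = (G ◁ t) ≫ (leftMul G X).act)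
    (h2 : IsPullback t A.π (snd G X) b) (h3 : t ≫ (G ◁ 𝟙 X) ≫ aX.act = A.φ) : A ⟶ X0 K aX where
  base := b
  top := t
  eqv := h1
  cart := h2
  wφ := h3

theorem tp_eq (κ : A ⟶ X0 K aX) : tp κ = lift (uu κ) (A.π ≫ bs κ) := by
  apply CartesianMonoidalCategory.hom_ext
  · rw [lift_fst]
    rfl
  · rw [lift_snd]
    exact tp_snd κ

theorem act_uu (κ : A ⟶ X0 K aX) : A.act.act ≫ uu κ = fst G A.P * (snd G A.P ≫ uu κ) := by
  rw [uu, ← Category.assoc, tp_eqv]
  simp only [leftMul, Category.assoc, lift_fst, comp_mul, whiskerLeft_fst, whiskerLeft_snd_assoc]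

omit [K.HasIsos] in
theorem act_π (A : QuotObj K G aX) : A.act.act ≫ A.π = snd G A.P ≫ A.π := A.cart.w

theorem wφ (κ : A ⟶ X0 K aX) : lift (uu κ) (A.π ≫ bs κ) ≫ aX.act = A.φ := by
  have h1 := tp_wφ κ
  rw [MonoidalCategory.whiskerLeft_id, Category.id_comp, tp_eq] at h1
  exact h1

/-- The trivialisation given by an arrow to `X0`. -/
theorem isIso_triv (κ : A ⟶ X0 K aX) : IsIso (lift (uu κ) A.π : A.P ⟶ G ⊗ A.base) := by
  let e := (tp_cart κ).isoIsPullback _ _ (isPullback_whiskerLeft (G := G) (bs κ))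
  have e1 : e.hom ≫ (G ◁ bs κ) = tp κ := (tp_cart κ).isoIsPullback_hom_fst _ _ _
  have e2 : e.hom ≫ snd G A.base = A.π := (tp_cart κ).isoIsPullback_hom_snd _ _ _
  have e3 : e.hom = lift (uu κ) A.π := by
    apply CartesianMonoidalCategory.hom_ext
    · rw [lift_fst, uu, ← e1, Category.assoc, whiskerLeft_fst]
    · rw [lift_snd, e2]
  rw [← e3]
  infer_instance

/-- Two maps to the torsor with the same coordinates agree. -/
theorem hom_ext_pt (κ : A ⟶ X0 K aX) {W : Over S} {a b : W ⟶ A.P} (h1 : a ≫ uu κ = b ≫ uu κ)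
    (h2 : a ≫ A.π = b ≫ A.π) : a = b := by
  have := isIso_triv κ
  rw [← cancel_mono (lift (uu κ) A.π)]
  apply CartesianMonoidalCategory.hom_ext
  · simpa using h1
  · simpa using h2

/-- The action of a point of `G` on arrows to `X0`. -/
noncomputable def sm (g : A.base ⟶ G) (κ : A ⟶ X0 K aX) : A ⟶ X0 K aX :=
  mkX0 (lift g (bs κ) ≫ aX.act) (lift (uu κ * (A.π ≫ g)⁻¹) (A.π ≫ lift g (bs κ) ≫ aX.act))
    (by
      apply CartesianMonoidalCategory.hom_ext
      · have h1 : A.act.act ≫ A.π ≫ g = snd G A.P ≫ A.π ≫ g := by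
          rw [← Category.assoc, act_π, Category.assoc]
        simp only [leftMul, Category.assoc, lift_fst, comp_mul, comp_inv, act_uu, h1, whiskerLeft_fst,
          whiskerLeft_snd_assoc]
        rw [_root_.mul_assoc]
      · simp only [leftMul, Category.assoc, lift_snd, whiskerLeft_snd_assoc]
        rw [← Category.assoc, act_π, Category.assoc])
    (by
      have h1 := isIso_triv κ
      have h2 := isIso_rmul_id (T := A.base) g⁻¹
      have h3 : lift (uu κ * (A.π ≫ g)⁻¹) (A.π ≫ lift g (bs κ) ≫ aX.act) =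
          (lift (uu κ) A.π ≫ rmul g⁻¹ (𝟙 A.base)) ≫ (G ◁ (lift g (bs κ) ≫ aX.act)) := by
        rw [lift_rmul]
        apply CartesianMonoidalCategory.hom_ext
        · simp [comp_inv]
        · simp only [lift_snd, whiskerLeft_snd, lift_snd_assoc, Category.comp_id, Category.assoc]
      have h4 : (lift (uu κ) A.π ≫ rmul g⁻¹ (𝟙 A.base)) ≫ snd G A.base = A.π := by
        rw [lift_rmul]
        simp
      refine IsPullback.of_iso (isPullback_whiskerLeft (G := G) (lift g (bs κ) ≫ aX.act))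
        (asIso (lift (uu κ) A.π ≫ rmul g⁻¹ (𝟙 A.base))).symm (Iso.refl _) (Iso.refl _) (Iso.refl _) ?_ ?_ ?_ ?_
      · rw [Iso.refl_hom, Category.comp_id, Iso.symm_hom, asIso_inv, IsIso.eq_inv_comp, h3]
      · rw [Iso.refl_hom, Category.comp_id, Iso.symm_hom, asIso_inv, IsIso.eq_inv_comp, h4]
      · rw [Iso.refl_hom, Iso.refl_hom, Category.comp_id, Category.id_comp]
      · rw [Iso.refl_hom, Iso.refl_hom, Category.comp_id, Category.id_comp])
    (by
      have h1 : A.π ≫ lift g (bs κ) ≫ aX.act = lift (A.π ≫ g) (A.π ≫ bs κ) ≫ aX.act := by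
        rw [← Category.assoc, comp_lift]
      rw [MonoidalCategory.whiskerLeft_id, Category.id_comp, h1, ← lift_mul_act, inv_mul_cancel_right, wφ])

theorem bs_sm (g : A.base ⟶ G) (κ : A ⟶ X0 K aX) : bs (sm g κ) = lift g (bs κ) ≫ aX.act := rfl

theorem uu_sm (g : A.base ⟶ G) (κ : A ⟶ X0 K aX) : uu (sm g κ) = uu κ * (A.π ≫ g)⁻¹ := by
  change lift (uu κ * (A.π ≫ g)⁻¹) (A.π ≫ lift g (bs κ) ≫ aX.act) ≫ fst G X = _
  rw [lift_fst]

/-- Arrows to `X0` are determined by the group coordinate and the morphism of bases. -/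
theorem hom_ext_uu {κ κ' : A ⟶ X0 K aX} (h1 : uu κ = uu κ') (h2 : bs κ = bs κ') : κ = κ' := by
  have h3 : tp κ = tp κ' := by rw [tp_eq, tp_eq, h1, h2]
  exact QuotObj.hom_ext h2 h3

theorem one_sm (κ : A ⟶ X0 K aX) : sm 1 κ = κ := by
  apply hom_ext_uu
  · rw [uu_sm, comp_one, inv_one, _root_.mul_one]
  · rw [bs_sm, lift_one_act]

theorem mul_sm (g h : A.base ⟶ G) (κ : A ⟶ X0 K aX) : sm (g * h) κ = sm g (sm h κ) := by
  apply hom_ext_uu
  · rw [uu_sm, uu_sm, uu_sm, comp_mul, _root_.mul_inv_rev, _root_.mul_assoc]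
  · rw [bs_sm, bs_sm, bs_sm, lift_mul_act]

theorem uu_comp {A' : QuotObj K G aX} (χ : A' ⟶ A) (κ : A ⟶ X0 K aX) : uu (χ ≫ κ) = χ.top ≫ uu κ :=
  Category.assoc χ.top (tp κ) (fst G X)

theorem bs_comp {A' : QuotObj K G aX} (χ : A' ⟶ A) (κ : A ⟶ X0 K aX) : bs (χ ≫ κ) = χ.base ≫ bs κ := rfl

theorem comp_sm {A' : QuotObj K G aX} (χ : A' ⟶ A) (g : A.base ⟶ G) (κ : A ⟶ X0 K aX) :
    χ ≫ sm g κ = sm (χ.base ≫ g) (χ ≫ κ) := by
  apply hom_ext_uu
  · rw [uu_comp, uu_sm, uu_sm, uu_comp, comp_mul, comp_inv, ← Category.assoc, χ.cart.w, Category.assoc]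
  · rw [bs_comp, bs_sm, bs_sm, bs_comp, ← Category.assoc, comp_lift]

/-- The section of the torsor given by an arrow to `X0`. -/
noncomputable def sec (κ : A ⟶ X0 K aX) : A.base ⟶ A.P :=
  (tp_cart κ).lift (lift 1 (bs κ)) (𝟙 A.base) (by rw [lift_snd, Category.id_comp])

theorem sec_uu (κ : A ⟶ X0 K aX) : sec κ ≫ uu κ = 1 := by
  rw [uu, ← Category.assoc, sec, (tp_cart κ).lift_fst, lift_fst]

theorem sec_π (κ : A ⟶ X0 K aX) : sec κ ≫ A.π = 𝟙 A.base := (tp_cart κ).lift_snd _ _ _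

theorem eq_act_sec (κ : A ⟶ X0 K aX) : lift (uu κ) (A.π ≫ sec κ) ≫ A.act.act = 𝟙 A.P := by
  apply hom_ext_pt κ
  · rw [Category.assoc, act_uu, comp_mul, lift_fst, lift_snd_assoc, Category.assoc, sec_uu, comp_one,
      _root_.mul_one, Category.id_comp]
  · rw [Category.assoc, act_π, lift_snd_assoc, Category.assoc, sec_π, Category.comp_id, Category.id_comp]

/-- Transitivity. -/
theorem exists_sm_eq (κ κ' : A ⟶ X0 K aX) : ∃ g : A.base ⟶ G, sm g κ = κ' := by
  have h1 : uu κ' = uu κ * (A.π ≫ sec κ ≫ uu κ') := by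
    have h := congrArg (fun t => t ≫ uu κ') (eq_act_sec κ)
    simp only [Category.assoc, act_uu, comp_mul, lift_fst, lift_snd_assoc, Category.id_comp] at h
    exact h.symm
  refine ⟨(sec κ ≫ uu κ')⁻¹, hom_ext_uu ?_ ?_⟩
  · rw [uu_sm, comp_inv, _root_.inv_inv, ← h1]
  · rw [bs_sm]
    have h2 : sec κ ≫ A.φ = bs κ := by
      rw [← wφ κ, ← Category.assoc, comp_lift, sec_uu, ← Category.assoc, sec_π, Category.id_comp, lift_one_act]
    have h3 : sec κ ≫ A.φ = lift (sec κ ≫ uu κ') (bs κ') ≫ aX.act := by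
      rw [← wφ κ', ← Category.assoc, comp_lift, ← Category.assoc (sec κ) A.π, sec_π, Category.id_comp]
    rw [← h2, h3, ← lift_mul_act, inv_mul_cancel, lift_one_act]

/-- Freeness. -/
theorem sm_injective (κ : A ⟶ X0 K aX) {g g' : A.base ⟶ G} (h : sm g κ = sm g' κ) : g = g' := by
  have h1 := congrArg (fun t => sec κ ≫ uu t) h
  simp only [uu_sm, comp_mul, sec_uu, comp_inv, _root_.one_mul] at h1
  rw [← Category.assoc, ← Category.assoc, sec_π, Category.id_comp, Category.id_comp] at h1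
  exact inv_injective h1

/-! ### Trivial objects -/

/-- Arrows between points of `X`. -/
noncomputable def ptMap {T' T : Over S} (f : T' ⟶ T) (x : T ⟶ X) {x' : T' ⟶ X} (h : f ≫ x = x') :
    ptX x' ⟶ ptX x :=
  ⟨f, ULift.ext _ _ h⟩

variable (K aX) in
/-- The canonical arrow between trivial objects. -/
noncomputable def trMap {T' T : Over S} (f : T' ⟶ T) (x : T ⟶ X) {x' : T' ⟶ X} (h : f ≫ x = x') :
    tr K aX x' ⟶ tr K aX x :=
  (quotMap K G aX).map (ptMap f x h)

theorem trMap_base {T' T : Over S} (f : T' ⟶ T) (x : T ⟶ X) {x' : T' ⟶ X} (h : f ≫ x = x') :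
    (trMap K aX f x h).base = f := rfl

variable (K aX) in
/-- The arrow from a trivial object to `X0`. -/
noncomputable def trX {T : Over S} (x : T ⟶ X) : tr K aX x ⟶ X0 K aX :=
  trMap K aX x (𝟙 X) (Category.comp_id x)

theorem trX_base {T : Over S} (x : T ⟶ X) : (trX K aX x).base = x := rfl

end K159.Tors
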