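import Groth.Agent.StMod.K159.Exp
import Groth.Agent.StMod.K159.Tors
import Groth.Agent.AlgSt.K744.QuotFib

/-!
# The coaction on the sections over `X` of a quasi-coherent module on `[X/G]`; local finiteness

`F` a quasi-coherent module on `[X/G]` over a field `k`, `G` affine, `X` quasi-compact, `M = Γ(X, F)`.
* `exists_coact`: `(g • κ)^* m = ∑ g^*(b i) κ^*(c i)` for all `g`, `κ` with a fixed finite family `c` in `M`;
* `exists_stable`: a finite family in `M` is contained (after restriction to arbitrary `κ`) in a finite dimensional stable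
  subspace;
* `exists_matrix`: a stable subspace gives a matrix representation of `G` (`C(g h) = C(h) C(g)`, `C(1) = 1`).
-/

set_option autoImplicit false
set_option linter.unusedVariables false
set_option linter.style.haveILetI false
set_option backward.isDefEq.respectTransparency false
set_option backward.isDefEq.respectTransparency.types false
set_option linter.dupNamespace false
set_option linter.unusedSectionVars false

universe v w u

open CategoryTheory CategoryTheory.Limits MonoidalCategory CartesianMonoidalCategory AlgebraicGeometry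
open Opposite TopologicalSpace StMod AlgSt
open Groth.Agent.CohqA.BaseChangeMod

namespace K159.Coact

open K159.Exp K159.Tors

section General

theorem isBC_self {A B : Type u} [CommRing A] [CommRing B] (φ : A →+* B) : IsBC φ φ.toAddMonoidHom := by
  refine ⟨fun r x => φ.map_mul r x, fun Q _ _ g hg => ?_⟩
  refine ⟨LinearMap.toSpanSingleton B Q (g 1), fun x => ?_, fun g' hg' => ?_⟩
  · have h1 := hg x 1
    rw [smul_eq_mul, mul_one] at h1
    rw [LinearMap.toSpanSingleton_apply, h1]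
    rfl
  · apply LinearMap.ext_ring
    have h1 := hg' 1
    change g' (φ 1) = g 1 at h1
    rw [map_one] at h1
    rw [h1, LinearMap.toSpanSingleton_apply, one_smul]

variable {k : Type u} [CommRing k]

theorem isPushout_st {P X T : Over (Spec (CommRingCat.of k))} (p : P ⟶ X) (t : P ⟶ T)
    (h : IsPullback p.left t.left X.hom T.hom) (hX : IsAffine X.left) (hT : IsAffine T.left) :
    IsPushout (CommRingCat.ofHom (st T)) (CommRingCat.ofHom (st X))
      (CommRingCat.ofHom t.left.appTop.hom) (CommRingCat.ofHom p.left.appTop.hom) := by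
  have h1 : IsPushout X.hom.appTop T.hom.appTop p.left.appTop t.left.appTop :=
    isPushout_appTop_of_isPullback h
  refine h1.flip.of_iso (Scheme.ΓSpecIso (CommRingCat.of k)) (Iso.refl _) (Iso.refl _) (Iso.refl _) ?_ ?_
    (by simp) (by simp)
  · rw [Iso.refl_hom, Category.comp_id, ← Iso.inv_comp_eq]
    rfl
  · rw [Iso.refl_hom, Category.comp_id, ← Iso.inv_comp_eq]
    rfl

/-- Expansion of functions on a product. -/
theorem exists_fun_exp {P X T : Over (Spec (CommRingCat.of k))} (p : P ⟶ X) (t : P ⟶ T)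
    (h : IsPullback p.left t.left X.hom T.hom) (hX : IsAffine X.left) (hT : IsAffine T.left) {I : Type u}
    {b : I → Γ(T.left, ⊤)} (hb : IsBas (st T) b) (z : Γ(P.left, ⊤)) :
    ∃ α : I →₀ Γ(X.left, ⊤), z = α.sum fun i a => t.left.appTop (b i) * p.left.appTop a := by
  letI : Module k Γ(X.left, ⊤) := Module.compHom _ (st X)
  letI : Module Γ(T.left, ⊤) Γ(P.left, ⊤) := Module.compHom _ t.left.appTop.hom
  have h1 : IsBC (st T) p.left.appTop.hom.toAddMonoidHom :=
    K908.BC.isBC_of_isPushout (st X) (st T) p.left.appTop.hom t.left.appTop.hom (isPushout_st p t h hX hT)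
      (fun a m => rfl) (fun b m => rfl) (isBC_self p.left.appTop.hom)
  obtain ⟨α, hα⟩ := (ex_bijective (st T) h1 hb).2 z
  refine ⟨α, ?_⟩
  rw [← hα, ex_apply]
  rfl

theorem isPullback_prd (T V : Over (Spec (CommRingCat.of k))) :
    IsPullback (snd T V).left (fst T V).left V.hom T.hom := by
  have h1 : IsPullback (snd T V).left (fst T V).left (toUnit V).left (toUnit T).left :=
    (isPullback_fst_snd T V).flip.map (Over.forget _)
  have h2 : ∀ W : Over (Spec (CommRingCat.of k)), (toUnit W).left = W.hom := fun W =>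
    (Category.comp_id _).symm.trans (Over.w (toUnit W))
  rw [h2, h2] at h1
  exact h1

variable {𝒳 : BasedCategory.{v, w} (Over (Spec (CommRingCat.of k)))}

theorem mapTop_sum (F : Mod 𝒳) {ξ' ξ : 𝒳.obj} (φ : ξ' ⟶ ξ) {ι : Type*} (s : Finset ι) (f : ι → Γ(F.obj ξ, ⊤)) :
    F.mapTop φ (∑ i ∈ s, f i) = ∑ i ∈ s, F.mapTop φ (f i) :=
  map_sum (K907.Sec.resTop F φ) f s

theorem mapTop_exS (F : Mod 𝒳) {y x : 𝒳.obj} (ψ : y ⟶ x) {T : Over (Spec (CommRingCat.of k))}
    (t : 𝒳.p.obj y ⟶ T) {w : 𝒳.obj} (κ : w ⟶ y) {I : Type u} (b : I → Γ(T.left, ⊤)) (c : I →₀ Γ(F.obj x, ⊤)) :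
    F.mapTop κ (exS F ψ t b c) = exS F (κ ≫ ψ) (𝒳.p.map κ ≫ t) b c := by
  rw [exS_pull F ψ t (φ := 𝟙 x) (l := κ ≫ ψ) (Category.comp_id _).symm b c]
  congr 1
  ext i
  exact Mod.mapTop_id _ _ _

/-- Arrows to a product. -/
theorem exists_hom_prd (hX : FibCat.IsFibGrpd 𝒳.p) {y x : 𝒳.obj} {ψ : y ⟶ x} {T : Over (Spec (CommRingCat.of k))}
    {t : 𝒳.p.obj y ⟶ T} (h : Prd ψ t) {a : 𝒳.obj} (κ : a ⟶ x) (g : 𝒳.p.obj a ⟶ T) :
    ∃ χ : a ⟶ y, χ ≫ ψ = κ ∧ 𝒳.p.map χ ≫ t = g := by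
  have hw : (𝒳.p.map κ).left ≫ (𝒳.p.obj x).hom = g.left ≫ T.hom := by rw [Over.w, Over.w]
  let r : (𝒳.p.obj a).left ⟶ (𝒳.p.obj y).left := IsPullback.lift h (𝒳.p.map κ).left g.left hw
  have h1 : r ≫ (𝒳.p.map ψ).left = (𝒳.p.map κ).left := IsPullback.lift_fst h _ _ _
  have h2 : r ≫ t.left = g.left := IsPullback.lift_snd h _ _ _
  let r' : 𝒳.p.obj a ⟶ 𝒳.p.obj y := Over.homMk r (by
    rw [← Over.w (𝒳.p.map ψ), ← Category.assoc, h1, Over.w])
  obtain ⟨χ, ⟨e1, e2⟩, -⟩ := K906.Grpd.existsUnique_hom hX ψ κ r' (Over.OverMorphism.ext h1)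
  exact ⟨χ, e2, by rw [e1]; exact Over.OverMorphism.ext h2⟩

/-- Functions on the scheme under `y` from functions on `T`. -/
noncomputable def pf {y : 𝒳.obj} {T : Over (Spec (CommRingCat.of k))} (t : 𝒳.p.obj y ⟶ T) :
    Γ(T.left, ⊤) →+* Γ(sch 𝒳 y, ⊤) := t.left.appTop.hom

/-- Constants on the scheme under `x`. -/
noncomputable def sx (x : 𝒳.obj) : k →+* Γ(sch 𝒳 x, ⊤) := st (𝒳.p.obj x)

theorem pf_st {y : 𝒳.obj} {T : Over (Spec (CommRingCat.of k))} (t : 𝒳.p.obj y ⟶ T) (r : k) :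
    pf t (st T r) = sx y r := st_comp t r

theorem pf_comp {y : 𝒳.obj} {T T' : Over (Spec (CommRingCat.of k))} (t : 𝒳.p.obj y ⟶ T) (f : T ⟶ T')
    (a : Γ(T'.left, ⊤)) : pf (t ≫ f) a = pf t (f.left.appTop a) := by
  change (t ≫ f).left.appTop a = t.left.appTop (f.left.appTop a)
  rw [Over.comp_left, Scheme.Hom.comp_appTop]
  rfl

theorem appTop_pf {w y : 𝒳.obj} {T : Over (Spec (CommRingCat.of k))} (κ : w ⟶ y) (t : 𝒳.p.obj y ⟶ T)
    (a : Γ(T.left, ⊤)) : (bmap 𝒳 κ).appTop (pf t a) = pf (𝒳.p.map κ ≫ t) a := by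
  change (𝒳.p.map κ).left.appTop (t.left.appTop a) = (𝒳.p.map κ ≫ t).left.appTop a
  rw [Over.comp_left, Scheme.Hom.comp_appTop]
  rfl

theorem appTop_sx {w y : 𝒳.obj} (κ : w ⟶ y) (r : k) : (bmap 𝒳 κ).appTop (sx y r) = sx w r :=
  st_comp (𝒳.p.map κ) r

theorem mapTop_pf (F : Mod 𝒳) {w y : 𝒳.obj} {T : Over (Spec (CommRingCat.of k))} (κ : w ⟶ y) (t : 𝒳.p.obj y ⟶ T)
    (a : Γ(T.left, ⊤)) (m : Γ(F.obj y, ⊤)) :
    F.mapTop κ (pf t a • m) = pf (𝒳.p.map κ ≫ t) a • F.mapTop κ m := by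
  rw [Mod.mapTop_smul, appTop_pf]

theorem exS_eq (F : Mod 𝒳) {y x : 𝒳.obj} (ψ : y ⟶ x) {T : Over (Spec (CommRingCat.of k))}
    (t : 𝒳.p.obj y ⟶ T) {I : Type u} (b : I → Γ(T.left, ⊤)) (c : I →₀ Γ(F.obj x, ⊤)) :
    exS F ψ t b c = c.sum fun i m => pf t (b i) • F.mapTop ψ m :=
  exS_apply _ _ _ _ _

/-- Multiplication of a section by a scalar. -/
noncomputable def ks (F : Mod 𝒳) (x : 𝒳.obj) (r : k) (m : Γ(F.obj x, ⊤)) : Γ(F.obj x, ⊤) := sx x r • m

theorem ks_eq (F : Mod 𝒳) (x : 𝒳.obj) (r : k) (m : Γ(F.obj x, ⊤)) : ks F x r m = sx x r • m := rfl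

theorem mapTop_ks (F : Mod 𝒳) {x' x : 𝒳.obj} (φ : x' ⟶ x) (r : k) (m : Γ(F.obj x, ⊤)) :
    F.mapTop φ (ks F x r m) = ks F x' r (F.mapTop φ m) := by
  rw [ks_eq, Mod.mapTop_smul, ks_eq, appTop_sx]

/-- Sections over `x` as a `k`-module. -/
def KM (F : Mod 𝒳) (x : 𝒳.obj) : Type u := Γ(F.obj x, ⊤)

noncomputable instance (F : Mod 𝒳) (x : 𝒳.obj) : AddCommGroup (KM F x) :=
  inferInstanceAs (AddCommGroup Γ(F.obj x, ⊤))

noncomputable instance KM.instModule (F : Mod 𝒳) (x : 𝒳.obj) : Module k (KM F x) :=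
  letI : Module Γ(sch 𝒳 x, ⊤) (KM F x) := inferInstanceAs (Module Γ(sch 𝒳 x, ⊤) Γ(F.obj x, ⊤))
  Module.compHom (KM F x) (sx x)

/-- The identification. -/
noncomputable def toKM (F : Mod 𝒳) (x : 𝒳.obj) : Γ(F.obj x, ⊤) ≃+ KM F x := AddEquiv.refl _

theorem toKM_ks (F : Mod 𝒳) (x : 𝒳.obj) (r : k) (m : Γ(F.obj x, ⊤)) :
    toKM F x (ks F x r m) = r • toKM F x m := rfl

theorem toKM_symm_smul (F : Mod 𝒳) (x : 𝒳.obj) (r : k) (m : KM F x) :
    (toKM F x).symm (r • m) = sx x r • (toKM F x).symm m := rfl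

end General

section Indep

variable {k : Type u} [Field k] {𝒳 : BasedCategory.{v, w} (Over (Spec (CommRingCat.of k)))}
  [hX : FibCat.IsFibGrpd 𝒳.p]

/-- Linear independence after base change. -/
theorem indep (F : QCoh 𝒳) {y x : 𝒳.obj} {ψ : y ⟶ x} {T : Over (Spec (CommRingCat.of k))}
    {t : 𝒳.p.obj y ⟶ T} (h : Prd ψ t) (hT : IsAffine T.left) {n : ℕ} (w : Fin n → Γ(F.obj.obj x, ⊤))
    (hw : LinearIndependent k (fun l => toKM F.obj x (w l))) (a : Fin n → Γ(T.left, ⊤))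
    (ha : ∑ l, pf t (a l) • F.obj.mapTop ψ (w l) = 0) : ∀ l, a l = 0 := by
  classical
  letI := (st T).toAlgebra
  let B := Module.Basis.ofVectorSpace k Γ(T.left, ⊤)
  have hb : IsBas (st T) (fun i => B i) := ⟨B, fun i => rfl⟩
  have h00 : ∀ (m : Γ(F.obj.obj x, ⊤)), ks F.obj x 0 m = 0 := by
    intro m
    rw [ks_eq, map_zero]
    exact zero_smul _ _
  -- the family of coefficients
  let c : _ →₀ Γ(F.obj.obj x, ⊤) := ∑ l, (B.repr (a l)).mapRange (fun r : k => ks F.obj x r (w l)) (h00 _)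
  have hc : exS F.obj ψ t (fun i => B i) c = 0 := by
    rw [← ha, map_sum]
    refine Finset.sum_congr rfl fun l _ => ?_
    rw [exS_eq, Finsupp.sum_mapRange_index (by intro i; rw [Mod.mapTop_zero, smul_zero])]
    have h1 : a l = (B.repr (a l)).sum fun i r => st T r * B i := by
      conv_lhs => rw [← B.linearCombination_repr (a l), Finsupp.linearCombination_apply]
      rfl
    have h2 : pf t (a l) = (B.repr (a l)).sum fun i r => pf t (B i) * sx y r := by
      conv_lhs => rw [h1]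
      rw [Finsupp.sum, Finsupp.sum, map_sum]
      refine Finset.sum_congr rfl fun i _ => ?_
      rw [map_mul, mul_comm, pf_st]
    rw [h2, Finsupp.sum, Finsupp.sum]
    refine Eq.trans ?_ (Finset.sum_smul).symm
    refine Finset.sum_congr rfl fun i _ => ?_
    rw [mapTop_ks, ks_eq, ← mul_smul]
  have h0 := exS_injective F ψ t h hT hb (hc.trans (map_zero _).symm)
  have h2 : ∀ i, ∑ l, B.repr (a l) i • toKM F.obj x (w l) = 0 := by
    intro i
    have h3 := DFunLike.congr_fun h0 i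
    rw [Finsupp.finsetSum_apply] at h3
    exact h3
  intro l
  apply B.repr.injective
  ext i
  rw [map_zero]
  exact Fintype.linearIndependent_iff.1 hw (fun l => B.repr (a l) i) (h2 i) l

end Indep

section Group

open scoped MonObj

variable {k : Type u} [Field k] {G : Over (Spec (CommRingCat.of k))} [GrpObj G] {X : Over (Spec (CommRingCat.of k))}
  {aX : AlgGrp.Action G X}

variable (aX) in
/-- The quotient stack. -/
noncomputable abbrev QS := QuotSt Scheme.fppfPrecoverage G aX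

variable (aX) in
/-- The canonical object. -/
noncomputable abbrev XX : (QS aX).obj := X0 Scheme.fppfPrecoverage aX

variable (aX) in
theorem hQ : FibCat.IsFibGrpd (QS aX).p := K744.QuotFib.isFibGrpd

theorem prd_tr (T : Over (Spec (CommRingCat.of k))) {V : Over (Spec (CommRingCat.of k))} (x : V ⟶ X) :
    Prd (𝒳 := QS aX) (trMap Scheme.fppfPrecoverage aX (snd T V) x rfl) (fst T V) :=
  isPullback_prd T V

theorem exists_prd (A : (QS aX).obj) (T : Over (Spec (CommRingCat.of k))) :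
    ∃ (w : (QS aX).obj) (l : w ⟶ A) (t : w.base ⟶ T), Prd (𝒳 := QS aX) l t :=
  ⟨K744.QuotFib.bc A (snd T A.base), K744.QuotFib.bcHom A (snd T A.base), fst T A.base, isPullback_prd T A.base⟩

/-- Compatibility of the action with arrows, in terms of the structure functor. -/
theorem comp_sm' {A' A : (QS aX).obj} (χ : A' ⟶ A) (g : A.base ⟶ G) (κ : A ⟶ XX aX) :
    χ ≫ sm g κ = sm (show A'.base ⟶ G from (QS aX).p.map χ ≫ g) (χ ≫ κ) := comp_sm χ g κ

theorem exS_comp {𝒳 : BasedCategory.{v, w} (Over (Spec (CommRingCat.of k)))} (F : Mod 𝒳) {w y x : 𝒳.obj}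
    (l : w ⟶ y) (φ : y ⟶ x) {T : Over (Spec (CommRingCat.of k))}
    (t : 𝒳.p.obj w ⟶ T) {I : Type u} (b : I → Γ(T.left, ⊤)) (c : I →₀ Γ(F.obj x, ⊤)) :
    exS F (l ≫ φ) t b c = exS F l t b (Finsupp.mapRange.addMonoidHom (K907.Sec.resTop F φ) c) := by
  have key : exS F (l ≫ φ) t b = (exS F l t b).comp
      (Finsupp.mapRange.addMonoidHom (K907.Sec.resTop F φ)) := by
    ext i m
    change ex _ _ (Finsupp.single i m) =
      ex _ _ (Finsupp.mapRange.addMonoidHom (K907.Sec.resTop F φ) (Finsupp.single i m))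
    rw [Finsupp.mapRange.addMonoidHom_apply, Finsupp.mapRange_single, ex_single, ex_single]
    congr 1
    exact F.mapTop_comp l φ m
  exact DFunLike.congr_fun key c

/-- The coaction. -/
theorem exists_coact (F : QCoh (QS aX)) (hG : IsAffine G.left) (hXc : CompactSpace X.left) {I : Type u}
    {b : I → Γ(G.left, ⊤)} (hb : IsBas (st G) b) (m : Γ(F.obj.obj (XX aX), ⊤)) :
    ∃ c : I →₀ Γ(F.obj.obj (XX aX), ⊤), ∀ (A : (QS aX).obj) (κ : A ⟶ XX aX) (g : A.base ⟶ G),
      F.obj.mapTop (sm g κ) m = exS F.obj κ g b c := by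
  have hX := hQ aX
  let ψ := trMap Scheme.fppfPrecoverage aX (snd G X) (𝟙 X) rfl
  have hP : Prd (𝒳 := QS aX) ψ (fst G X) := prd_tr G (𝟙 X)
  obtain ⟨c, hc⟩ := exS_surjective F ψ (fst G X) hP hG hXc hb (F.obj.mapTop (sm (fst G X) ψ) m)
  refine ⟨c, fun A κ g => ?_⟩
  obtain ⟨χ, h1, h2⟩ := exists_hom_prd hX hP κ g
  have h3 := congrArg (F.obj.mapTop χ) hc
  rw [mapTop_exS, ← Mod.mapTop_comp, comp_sm'] at h3
  rw [h1, h2] at h3
  exact h3.symm

theorem pf_mul {A : (QS aX).obj} (g h : A.base ⟶ G) (a : Γ(G.left, ⊤)) :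
    pf (𝒳 := QS aX) (g * h) a = pf (𝒳 := QS aX) (lift g h) (μ[G].left.appTop a) := by
  rw [Hom.mul_def]
  exact pf_comp (𝒳 := QS aX) (lift g h) μ[G] a

/-- The coefficients of the coaction. -/
theorem exists_coeff (F : QCoh (QS aX)) (hG : IsAffine G.left) {I : Type u}
    {b : I → Γ(G.left, ⊤)} (hb : IsBas (st G) b) (m : Γ(F.obj.obj (XX aX), ⊤))
    (c : I →₀ Γ(F.obj.obj (XX aX), ⊤))
    (hc : ∀ (A : (QS aX).obj) (κ : A ⟶ XX aX) (g : A.base ⟶ G), F.obj.mapTop (sm g κ) m = exS F.obj κ g b c) :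
    ∃ α : I → I →₀ Γ(G.left, ⊤), ∀ (i : I) (A : (QS aX).obj) (κ : A ⟶ XX aX) (h : A.base ⟶ G),
      F.obj.mapTop (sm h κ) (c i) =
        c.sum fun j mj => pf (𝒳 := QS aX) h (α j i) • F.obj.mapTop κ mj := by
  have hX := hQ aX
  choose α hα using fun j => exists_fun_exp (snd G G) (fst G G) (isPullback_prd G G) hG hG hb (μ[G].left.appTop (b j))
  refine ⟨α, fun i A κ h => ?_⟩
  obtain ⟨w, l, t, hP⟩ := exists_prd A G
  have e0 : sm t (l ≫ sm h κ) = sm (t * (show w.base ⟶ G from (QS aX).p.map l ≫ h)) (l ≫ κ) := by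
    rw [comp_sm', mul_sm]
  have e1 := hc w (l ≫ sm h κ) t
  rw [exS_comp, e0, hc w] at e1
  -- the other expansion
  let d : I →₀ Γ(F.obj.obj A, ⊤) := c.sum fun j mj =>
    (α j).mapRange (fun a => pf (𝒳 := QS aX) h a • F.obj.mapTop κ mj) (by rw [map_zero, zero_smul])
  have hd : d = ∑ j ∈ c.support, (α j).mapRange (fun a => pf (𝒳 := QS aX) h a • F.obj.mapTop κ (c j))
    (by rw [map_zero, zero_smul]) := rfl
  have e2 : exS F.obj l t b d =
      exS F.obj (l ≫ κ) (t * (show w.base ⟶ G from (QS aX).p.map l ≫ h)) b c := by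
    rw [exS_eq F.obj (l ≫ κ), Finsupp.sum, hd, map_sum]
    refine Finset.sum_congr rfl fun j _ => ?_
    rw [exS_eq, Finsupp.sum_mapRange_index (by intro i; rw [Mod.mapTop_zero, smul_zero]), pf_mul, hα,
      Finsupp.sum, Finsupp.sum, map_sum]
    refine Eq.trans ?_ (Finset.sum_smul).symm
    refine Finset.sum_congr rfl fun i' _ => ?_
    rw [map_mul, ← pf_comp, ← pf_comp, lift_fst, lift_snd, mapTop_pf, mul_smul, ← Mod.mapTop_comp]
  have e3 := exS_injective F l t hP hG hb (e2.trans e1)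
  have e4 := DFunLike.congr_fun e3 i
  refine e4.symm.trans ?_
  rw [hd, Finsupp.finsetSum_apply]
  rfl

end Group

end K159.Coact
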