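import Groth.Agent.StMod.K908.Dense
import Groth.Agent.StMod.K906.Grpd
import Mathlib.LinearAlgebra.TensorProduct.Basis

/-!
# Flat base change of global sections by an affine scheme over a field, in terms of bases

`Exp.st T : k →+* Γ(T)`; `Exp.Prd ψ t`: the object `y` is the product of `x` and the scheme `T` over `k`.
For a `k`-basis `b` of `Γ(T)` and a quasi-coherent module `F`: every section of `F` over `y` has a unique expansion
`∑ b i • ψ^* (c i)` with `c i` sections over `x`; uniqueness holds for all `x` (`exS_injective`), existence for `x` over a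
quasi-compact scheme (`exS_surjective`).
-/

set_option autoImplicit false
set_option linter.unusedVariables false
set_option linter.style.haveILetI false
set_option backward.isDefEq.respectTransparency false
set_option backward.isDefEq.respectTransparency.types false
set_option linter.dupNamespace false
set_option linter.unusedSectionVars false

universe v w u

open CategoryTheory CategoryTheory.Limits AlgebraicGeometry Opposite TopologicalSpace StMod
open Groth.Agent.CohqA.BaseChangeMod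

namespace K159.Exp

section Alg

variable {k A : Type u} [CommRing k] [CommRing A] (φ : k →+* A)

/-- The family `b` is a basis of `A` over `k` along `φ`. -/
def IsBas {I : Type u} (b : I → A) : Prop :=
  ∃ B : @Module.Basis I k A _ _ φ.toAlgebra.toModule, ∀ i, B i = b i

/-- The expansion map `c ↦ ∑ b i • f (c i)`. -/
noncomputable def ex {I : Type u} (b : I → A) {M N : Type u} [AddCommGroup M] [AddCommGroup N] [Module A N]
    (f : M →+ N) : (I →₀ M) →+ N :=
  Finsupp.liftAddHom fun i => (DistribSMul.toAddMonoidHom N (b i)).comp f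

theorem ex_apply {I : Type u} (b : I → A) {M N : Type u} [AddCommGroup M] [AddCommGroup N] [Module A N]
    (f : M →+ N) (c : I →₀ M) : ex b f c = c.sum fun i m => b i • f m := by
  rw [ex, Finsupp.liftAddHom_apply]
  rfl

theorem ex_single {I : Type u} (b : I → A) {M N : Type u} [AddCommGroup M] [AddCommGroup N] [Module A N]
    (f : M →+ N) (i : I) (m : M) : ex b f (Finsupp.single i m) = b i • f m := by
  rw [ex, Finsupp.liftAddHom_apply_single]
  rfl

/-- For a base change along a free extension the expansion map is bijective. -/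
theorem ex_bijective {M N : Type u} [AddCommGroup M] [Module k M] [AddCommGroup N] [Module A N] {f : M →+ N}
    (h : IsBC φ f) {I : Type u} {b : I → A} (hb : IsBas φ b) : Function.Bijective (ex b f) := by
  classical
  obtain ⟨B, hB⟩ := hb
  letI := φ.toAlgebra
  letI : Module k N := Module.compHom N φ
  haveI : IsScalarTower k A N := ⟨fun a b m => by
      change (φ a * b) • m = φ a • b • m
      rw [mul_smul]⟩
  let f' : M →ₗ[k] N := { toFun := f, map_add' := f.map_add, map_smul' := h.map_smul }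
  have h1 : IsBaseChange A f' := (isBC_iff_isBaseChange f').1 h
  let e2 := TensorProduct.equivFinsuppOfBasisLeft (N := M) B
  have key : ex b f = (h1.equiv.toAddEquiv.toAddMonoidHom).comp e2.symm.toAddEquiv.toAddMonoidHom := by
    ext i m
    change ex b f (Finsupp.single i m) = h1.equiv (e2.symm (Finsupp.single i m))
    rw [ex_single, TensorProduct.equivFinsuppOfBasisLeft_symm_apply, Finsupp.sum_single_index (by simp),
      IsBaseChange.equiv_tmul, hB]
    rfl
  have : ⇑(ex b f) = h1.equiv ∘ e2.symm := by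
    rw [key]
    rfl
  rw [this]
  exact h1.equiv.bijective.comp e2.symm.bijective

theorem exists_isBas {k A : Type u} [Field k] [CommRing A] (φ : k →+* A) : ∃ (I : Type u) (b : I → A), IsBas φ b := by
  letI := φ.toAlgebra
  exact ⟨_, _, Module.Basis.ofVectorSpace k A, fun i => rfl⟩

end Alg

variable {k : Type u} [CommRing k]

/-- The structure map of the functions of a scheme over `k`. -/
noncomputable def st (T : Over (Spec (CommRingCat.of k))) : k →+* Γ(T.left, ⊤) :=
  T.hom.appTop.hom.comp (Scheme.ΓSpecIso (CommRingCat.of k)).inv.hom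

theorem st_comp {T' T : Over (Spec (CommRingCat.of k))} (f : T' ⟶ T) (r : k) :
    f.left.appTop (st T r) = st T' r := by
  have h := Over.w f
  have h1 : f.left.appTop (T.hom.appTop ((Scheme.ΓSpecIso (CommRingCat.of k)).inv.hom r)) =
      (f.left ≫ T.hom).appTop ((Scheme.ΓSpecIso (CommRingCat.of k)).inv.hom r) := by
    rw [Scheme.Hom.comp_appTop]
    rfl
  refine h1.trans ?_
  rw [Over.w]
  rfl

variable {𝒳 : BasedCategory.{v, w} (Over (Spec (CommRingCat.of k)))}

/-- The object `y` is the product of `x` with the scheme `T`. -/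
def Prd {y x : 𝒳.obj} (ψ : y ⟶ x) {T : Over (Spec (CommRingCat.of k))} (t : 𝒳.p.obj y ⟶ T) : Prop :=
  IsPullback (𝒳.p.map ψ).left t.left (𝒳.p.obj x).hom T.hom

theorem Prd.pull (hX : FibCat.IsFibGrpd 𝒳.p) {y x : 𝒳.obj} {ψ : y ⟶ x} {T : Over (Spec (CommRingCat.of k))}
    {t : 𝒳.p.obj y ⟶ T} (h : Prd ψ t) {w a : 𝒳.obj} {φ : a ⟶ x} {κ : w ⟶ y} {l : w ⟶ a}
    (H : IsPullback κ l ψ φ) : Prd l (𝒳.p.map κ ≫ t) := by
  have h1 := (K906.Grpd.isPullback_bmap hX H).paste_horiz (IsPullback.flip h)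
  have h2 : bmap 𝒳 φ ≫ (𝒳.p.obj x).hom = (𝒳.p.obj a).hom := Over.w (𝒳.p.map φ)
  rw [h2] at h1
  exact h1.flip

/-- The `k`-module structure on sections. -/
@[reducible] noncomputable def kmod (F : Mod 𝒳) (x : 𝒳.obj) : Module k Γ(F.obj x, ⊤) :=
  Module.compHom _ (show k →+* Γ(sch 𝒳 x, ⊤) from st (𝒳.p.obj x))

/-- The module structure over the functions of a scheme `T` under `x`. -/
@[reducible] noncomputable def tmod (F : Mod 𝒳) {y : 𝒳.obj} {T : Over (Spec (CommRingCat.of k))}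
    (t : 𝒳.p.obj y ⟶ T) : Module Γ(T.left, ⊤) Γ(F.obj y, ⊤) :=
  Module.compHom _ (show Γ(T.left, ⊤) →+* Γ(sch 𝒳 y, ⊤) from t.left.appTop.hom)

/-- Base change by an affine scheme over `k` for affine objects. -/
theorem isBC_prd (F : QCoh 𝒳) {y x : 𝒳.obj} (ψ : y ⟶ x) {T : Over (Spec (CommRingCat.of k))}
    (t : 𝒳.p.obj y ⟶ T) (h : Prd ψ t) (hx : IsAffine (sch 𝒳 x)) (hT : IsAffine T.left) :
    letI := kmod F.obj x
    letI := tmod F.obj t
    IsBC (st T) (K907.Sec.resTop F.obj ψ) := by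
  have hx' : IsAffine (𝒳.p.obj x).left := hx
  have hy : IsAffine (sch 𝒳 y) := K907.Sec.isAffine_of_isPullback h
  have hy' : IsAffine (𝒳.p.obj y).left := hy
  have h1 : IsPushout (𝒳.p.obj x).hom.appTop T.hom.appTop (𝒳.p.map ψ).left.appTop t.left.appTop :=
    isPushout_appTop_of_isPullback h
  have h2 : IsPushout (CommRingCat.ofHom (st T)) (CommRingCat.ofHom (st (𝒳.p.obj x)))
      (CommRingCat.ofHom t.left.appTop.hom) (CommRingCat.ofHom (𝒳.p.map ψ).left.appTop.hom) := by
    refine h1.flip.of_iso (Scheme.ΓSpecIso (CommRingCat.of k)) (Iso.refl _) (Iso.refl _) (Iso.refl _) ?_ ?_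
      (by simp) (by simp)
    · rw [Iso.refl_hom, Category.comp_id, ← Iso.inv_comp_eq]
      rfl
    · rw [Iso.refl_hom, Category.comp_id, ← Iso.inv_comp_eq]
      rfl
  letI := kmod F.obj x
  letI := tmod F.obj t
  exact K908.BC.isBC_of_isPushout (st (𝒳.p.obj x)) (st T) (𝒳.p.map ψ).left.appTop.hom t.left.appTop.hom h2
    (fun a m => rfl) (fun b m => rfl) (K907.Sec.isBC_resTop F ψ)

/-- The expansion map on sections. -/
noncomputable def exS (F : Mod 𝒳) {y x : 𝒳.obj} (ψ : y ⟶ x) {T : Over (Spec (CommRingCat.of k))}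
    (t : 𝒳.p.obj y ⟶ T) {I : Type u} (b : I → Γ(T.left, ⊤)) : (I →₀ Γ(F.obj x, ⊤)) →+ Γ(F.obj y, ⊤) :=
  ex (A := Γ(sch 𝒳 y, ⊤)) (fun i => t.left.appTop (b i)) (K907.Sec.resTop F ψ)

theorem exS_apply (F : Mod 𝒳) {y x : 𝒳.obj} (ψ : y ⟶ x) {T : Over (Spec (CommRingCat.of k))}
    (t : 𝒳.p.obj y ⟶ T) {I : Type u} (b : I → Γ(T.left, ⊤)) (c : I →₀ Γ(F.obj x, ⊤)) :
    exS F ψ t b c = c.sum fun i m => (show Γ(sch 𝒳 y, ⊤) from t.left.appTop (b i)) • F.mapTop ψ m :=
  ex_apply _ _ _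

theorem exS_bijective_affine (F : QCoh 𝒳) {y x : 𝒳.obj} (ψ : y ⟶ x) {T : Over (Spec (CommRingCat.of k))}
    (t : 𝒳.p.obj y ⟶ T) (h : Prd ψ t) (hx : IsAffine (sch 𝒳 x)) (hT : IsAffine T.left) {I : Type u}
    {b : I → Γ(T.left, ⊤)} (hb : IsBas (st T) b) : Function.Bijective (exS F.obj ψ t b) := by
  letI := kmod F.obj x
  letI := tmod F.obj t
  have h1 := ex_bijective (st T) (isBC_prd F ψ t h hx hT) hb
  exact h1

/-- Compatibility of the expansions with base change of the object. -/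
theorem exS_pull (F : Mod 𝒳) {y x : 𝒳.obj} (ψ : y ⟶ x) {T : Over (Spec (CommRingCat.of k))}
    (t : 𝒳.p.obj y ⟶ T) {w a : 𝒳.obj} {φ : a ⟶ x} {κ : w ⟶ y} {l : w ⟶ a} (H : κ ≫ ψ = l ≫ φ)
    {I : Type u} (b : I → Γ(T.left, ⊤)) (c : I →₀ Γ(F.obj x, ⊤)) :
    F.mapTop κ (exS F ψ t b c) = exS F l (𝒳.p.map κ ≫ t) b
      (Finsupp.mapRange.addMonoidHom (K907.Sec.resTop F φ) c) := by
  have key : (K907.Sec.resTop F κ).comp (exS F ψ t b) = (exS F l (𝒳.p.map κ ≫ t) b).comp
      (Finsupp.mapRange.addMonoidHom (K907.Sec.resTop F φ)) := by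
    ext i m
    change F.mapTop κ (ex _ _ (Finsupp.single i m)) =
      ex _ _ (Finsupp.mapRange.addMonoidHom (K907.Sec.resTop F φ) (Finsupp.single i m))
    rw [Finsupp.mapRange.addMonoidHom_apply, Finsupp.mapRange_single, ex_single, ex_single, Mod.mapTop_smul]
    have h1 : (bmap 𝒳 κ).appTop (t.left.appTop (b i)) =
        (show Γ(sch 𝒳 w, ⊤) from (𝒳.p.map κ ≫ t).left.appTop (b i)) := by
      rw [Over.comp_left, Scheme.Hom.comp_appTop]
      rfl
    have h2 : F.mapTop κ (K907.Sec.resTop F ψ m) = K907.Sec.resTop F l (K907.Sec.resTop F φ m) := by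
      change F.mapTop κ (F.mapTop ψ m) = F.mapTop l (F.mapTop φ m)
      rw [← Mod.mapTop_comp, ← Mod.mapTop_comp, H]
    rw [h2]
    exact congrArg (fun r => r • K907.Sec.resTop F l (K907.Sec.resTop F φ m)) h1
  exact DFunLike.congr_fun key c

variable [hX : FibCat.IsFibGrpd 𝒳.p]

/-- Uniqueness of expansions. -/
theorem exS_injective (F : QCoh 𝒳) {y x : 𝒳.obj} (ψ : y ⟶ x) {T : Over (Spec (CommRingCat.of k))}
    (t : 𝒳.p.obj y ⟶ T) (h : Prd ψ t) (hT : IsAffine T.left) {I : Type u}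
    {b : I → Γ(T.left, ⊤)} (hb : IsBas (st T) b) : Function.Injective (exS F.obj ψ t b) := by
  rw [injective_iff_map_eq_zero]
  intro c hc
  ext i
  refine K908.Dense.sec_ext K908.Desc.dense_all F _ _ fun a φ => ?_
  obtain ⟨w, κ, l, H⟩ := K906.Grpd.exists_isPullback hX ψ φ
  have h1 := exS_pull F.obj ψ t (φ := φ) H.w b c
  rw [hc, Mod.mapTop_zero] at h1
  have h2 := (exS_bijective_affine F l _ (h.pull hX H) a.property hT hb).1 (h1.symm.trans (map_zero _).symm)
  have h3 := DFunLike.congr_fun h2 i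
  rw [Finsupp.coe_zero, Pi.zero_apply, Mod.mapTop_zero]
  exact h3

/-- Existence of expansions over quasi-compact objects. -/
theorem exS_surjective (F : QCoh 𝒳) {y x : 𝒳.obj} (ψ : y ⟶ x) {T : Over (Spec (CommRingCat.of k))}
    (t : 𝒳.p.obj y ⟶ T) (h : Prd ψ t) (hT : IsAffine T.left) (hx : CompactSpace (sch 𝒳 x)) {I : Type u}
    {b : I → Γ(T.left, ⊤)} (hb : IsBas (st T) b) : Function.Surjective (exS F.obj ψ t b) := by
  intro z
  -- local expansions
  have key : ∀ (a : (K908.AMod.ASieve.all 𝒳).cat.obj) (φ : a.obj ⟶ x), ∃ c : I →₀ Γ(F.obj.obj a.obj, ⊤),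
      ∀ (w : 𝒳.obj) (κ : w ⟶ y) (l : w ⟶ a.obj), IsPullback κ l ψ φ →
        F.obj.mapTop κ z = exS F.obj l (𝒳.p.map κ ≫ t) b c := by
    intro a φ
    obtain ⟨w, κ, l, H⟩ := K906.Grpd.exists_isPullback hX ψ φ
    obtain ⟨c, hc⟩ := (exS_bijective_affine F l _ (h.pull hX H) a.property hT hb).2 (F.obj.mapTop κ z)
    refine ⟨c, fun w' κ' l' H' => ?_⟩
    let e := H.lift κ' l' H'.w
    have e1 : e ≫ κ = κ' := H.lift_fst _ _ _
    have e2 : e ≫ l = l' := H.lift_snd _ _ _
    have h1 := exS_pull F.obj l (𝒳.p.map κ ≫ t) (κ := e) (l := l') (φ := 𝟙 a.obj) (by rw [e2, Category.comp_id]) b c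
    have h2 : Finsupp.mapRange.addMonoidHom (K907.Sec.resTop F.obj (𝟙 a.obj)) c = c := by
      ext i
      exact Mod.mapTop_id _ _ _
    rw [h2, hc, ← Mod.mapTop_comp, e1, ← Category.assoc, ← Functor.map_comp, e1] at h1
    exact h1
  choose c hc using key
  -- compatibility
  have comp : ∀ (a' a : (K908.AMod.ASieve.all 𝒳).cat.obj) (χ : a'.obj ⟶ a.obj) (φ : a.obj ⟶ x) (i : I),
      F.obj.mapTop χ (c a φ i) = c a' (χ ≫ φ) i := by
    intro a' a χ φ i
    obtain ⟨w', κ', l', H'⟩ := K906.Grpd.exists_isPullback hX ψ (χ ≫ φ)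
    obtain ⟨w, κ, l, H⟩ := K906.Grpd.exists_isPullback hX ψ φ
    let e := H.lift κ' (l' ≫ χ) (by rw [Category.assoc]; exact H'.w)
    have e1 : e ≫ κ = κ' := H.lift_fst _ _ _
    have e2 : e ≫ l = l' ≫ χ := H.lift_snd _ _ _
    have h1 := exS_pull F.obj l (𝒳.p.map κ ≫ t) (κ := e) (l := l') (φ := χ) e2 b (c a φ)
    rw [← hc a φ w κ l H, ← Mod.mapTop_comp, e1, ← Category.assoc, ← Functor.map_comp, e1,
      hc a' (χ ≫ φ) w' κ' l' H'] at h1
    have h2 := (exS_bijective_affine F l' _ (h.pull hX H') a'.property hT hb).1 h1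
    exact (DFunLike.congr_fun h2 i).symm
  have glue : ∀ i : I, ∃ m : Γ(F.obj.obj x, ⊤), ∀ (a : (K908.AMod.ASieve.all 𝒳).cat.obj) (φ : a.obj ⟶ x),
      F.obj.mapTop φ m = c a φ i := fun i =>
    K908.Dense.sec_glue K908.Desc.dense_all F (fun a φ => c a φ i) (fun a' a χ φ => comp a' a χ.hom φ i)
  choose m hm using glue
  -- finiteness of the support
  obtain ⟨s, hs, hcov⟩ := (isCompact_iff_finite_and_eq_biUnion_affineOpens
    (U := (⊤ : (sch 𝒳 x).Opens))).1 CompactSpace.isCompact_univ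
  have hch : ∀ W : (sch 𝒳 x).affineOpens, ∃ (a : (K908.AMod.ASieve.all 𝒳).cat.obj) (φ : a.obj ⟶ x)
      (_ : IsOpenImmersion (bmap 𝒳 φ)), (bmap 𝒳 φ).opensRange = W.1 := by
    intro W
    obtain ⟨ζ, φ, h1, h2⟩ := K908.Fib.exists_restr (𝒳 := 𝒳) x W.1
    exact ⟨⟨ζ, K908.Fib.isAffine_of_opensRange φ (by rw [h2]; exact W.2)⟩, φ, h1, h2⟩
  choose a φ hφ hφ' using hch
  have hfin : {i | m i ≠ 0}.Finite := by
    refine (hs.biUnion (fun W _ => ((c (a W) (φ W)).support : Set I).toFinite)).subset ?_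
    intro i hi
    by_contra hcon
    apply hi
    have h0 : ∀ W ∈ s, F.obj.mapTop (φ W) (m i) = 0 := by
      intro W hW
      rw [hm i]
      by_contra h1
      exact hcon (Set.mem_biUnion hW (Finsupp.mem_support_iff.2 h1))
    refine K908.BC.sec_ext (F.obj.obj x) (fun W : s => W.1.1) ⊤ (fun W => le_top) ?_ _ _ ?_
    · rw [hcov]
      intro p hp
      simp only [TopologicalSpace.Opens.mem_iSup] at hp
      obtain ⟨W, hW, hp⟩ := hp
      exact Opens.mem_iSup.2 ⟨⟨W, hW⟩, hp⟩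
    · rintro ⟨W, hW⟩
      haveI := hφ W
      haveI : IsAffine (sch 𝒳 (a W).obj) := (a W).property
      have hin : K908.Fam.InOp (φ W) W.1 := K908.Ext.inOp_of_range (φ W) (hφ' W)
      apply (K908.QSec.secX_bijective F (φ W) (hφ' W) hin).1
      rw [K908.QSec.secX_res, K908.QSec.secX_res, K908.QSec.secX_top, K908.QSec.secX_top, h0 W hW,
        Mod.mapTop_zero]
  let cc : I →₀ Γ(F.obj.obj x, ⊤) := Finsupp.ofSupportFinite m hfin
  refine ⟨cc, ?_⟩
  refine K908.Dense.sec_ext K908.Desc.dense_all F _ _ fun ζ ρ => ?_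
  obtain ⟨w, κ, l, H⟩ := K906.Grpd.exists_isPullback hX ψ (ρ ≫ ψ)
  let e := H.lift ρ (𝟙 ζ.obj) (Category.id_comp _).symm
  have e1 : e ≫ κ = ρ := H.lift_fst _ _ _
  have h1 := exS_pull F.obj ψ t (φ := ρ ≫ ψ) H.w b cc
  have h2 : Finsupp.mapRange.addMonoidHom (K907.Sec.resTop F.obj (ρ ≫ ψ)) cc = c ζ (ρ ≫ ψ) := by
    ext i
    exact hm i ζ (ρ ≫ ψ)
  rw [h2, ← hc ζ (ρ ≫ ψ) w κ l H] at h1
  rw [← e1, Mod.mapTop_comp, Mod.mapTop_comp, h1]

end K159.Exp
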