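import Groth.Agent.StMod.K159.Coact
import Mathlib.LinearAlgebra.FiniteDimensional.Basic

/-!
# Finite dimensional stable subspaces and their matrix representations

* `exists_stable`: local finiteness;
* `exists_matrix`, `matrix_mul`, `matrix_one`: the matrix of a stable finite dimensional subspace.
-/

set_option autoImplicit false
set_option linter.unusedVariables false
set_option linter.style.haveILetI false
set_option backward.isDefEq.respectTransparency false
set_option backward.isDefEq.respectTransparency.types false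
set_option linter.dupNamespace false
set_option linter.unusedSectionVars false

universe v w u

open CategoryTheory CategoryTheory.Limits MonoidalCategory CartesianMonoidalCategory AlgebraicGeometry
open Opposite TopologicalSpace StMod AlgSt
open Groth.Agent.CohqA.BaseChangeMod

namespace K159.Rep

open K159.Exp K159.Tors K159.Coact
open scoped MonObj

variable {k : Type u} [Field k] {G : Over (Spec (CommRingCat.of k))} [GrpObj G] {X : Over (Spec (CommRingCat.of k))}
  {aX : AlgGrp.Action G X}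

/-- The coaction of `w` has coefficients in `W`. -/
def Stab (F : QCoh (QS aX)) (W : Submodule k (KM F.obj (XX aX))) (w : Γ(F.obj.obj (XX aX), ⊤)) : Prop :=
  ∃ (J : Type u) (_ : Fintype J) (cc : J → Γ(G.left, ⊤)) (v : J → Γ(F.obj.obj (XX aX), ⊤)),
    (∀ s, toKM F.obj _ (v s) ∈ W) ∧
    ∀ (A : (QS aX).obj) (κ : A ⟶ XX aX) (h : A.base ⟶ G),
      F.obj.mapTop (sm h κ) w = ∑ s, pf (𝒳 := QS aX) h (cc s) • F.obj.mapTop κ (v s)

variable {F : QCoh (QS aX)} {W : Submodule k (KM F.obj (XX aX))}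

theorem Stab.zero : Stab F W 0 := by
  refine ⟨PEmpty, inferInstance, fun s => s.elim, fun s => s.elim, fun s => s.elim, fun A κ h => ?_⟩
  rw [Mod.mapTop_zero]
  rfl

theorem Stab.add {x y : Γ(F.obj.obj (XX aX), ⊤)} (hx : Stab F W x) (hy : Stab F W y) : Stab F W (x + y) := by
  obtain ⟨J, _, cc, v, hv, H⟩ := hx
  obtain ⟨J', _, cc', v', hv', H'⟩ := hy
  refine ⟨J ⊕ J', inferInstance, Sum.elim cc cc', Sum.elim v v', ?_, fun A κ h => ?_⟩
  · rintro (s | s)
    · exact hv s
    · exact hv' s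
  · rw [Mod.mapTop_add, H, H', Fintype.sum_sum_type]
    rfl

theorem Stab.ks {x : Γ(F.obj.obj (XX aX), ⊤)} (r : k) (hx : Stab F W x) : Stab F W (ks F.obj _ r x) := by
  obtain ⟨J, _, cc, v, hv, H⟩ := hx
  refine ⟨J, inferInstance, fun s => st G r * cc s, v, hv, fun A κ h => ?_⟩
  rw [mapTop_ks, H, ks_eq, Finset.smul_sum]
  refine Finset.sum_congr rfl fun s _ => ?_
  rw [← mul_smul, map_mul, pf_st]

theorem stab_of_span {s : Set (KM F.obj (XX aX))} (hs : ∀ w ∈ s, Stab F (Submodule.span k s) ((toKM F.obj _).symm w))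
    (w : KM F.obj (XX aX)) (hw : w ∈ Submodule.span k s) : Stab F (Submodule.span k s) ((toKM F.obj _).symm w) := by
  induction hw using Submodule.span_induction with
  | mem x hx => exact hs x hx
  | zero => exact Stab.zero
  | add x y _ _ hx hy => exact hx.add hy
  | smul r x _ hx => exact hx.ks r

/-- Local finiteness. -/
theorem exists_stable (F : QCoh (QS aX)) (hG : IsAffine G.left) (hXc : CompactSpace X.left) {N : ℕ}
    (m : Fin N → Γ(F.obj.obj (XX aX), ⊤)) :
    ∃ W : Submodule k (KM F.obj (XX aX)), Module.Finite k W ∧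
      (∀ w ∈ W, Stab F W ((toKM F.obj _).symm w)) ∧
      ∀ (r : Fin N) (A : (QS aX).obj) (κ : A ⟶ XX aX), F.obj.mapTop κ (m r) ∈
        Submodule.span Γ(sch (QS aX) A, ⊤) {x | ∃ w ∈ W, x = F.obj.mapTop κ ((toKM F.obj _).symm w)} := by
  obtain ⟨I, b, hb⟩ := exists_isBas (st G)
  choose c hc using fun r => exists_coact F hG hXc hb (m r)
  choose α hα using fun r => exists_coeff F hG hb (m r) (c r) (hc r)
  let s : Set (KM F.obj (XX aX)) := ⋃ r : Fin N, (fun i => toKM F.obj _ (c r i)) '' (c r).support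
  have hsf : s.Finite := Set.finite_iUnion fun r => ((c r).support.finite_toSet).image _
  have hmem : ∀ r, ∀ i ∈ (c r).support, toKM F.obj _ (c r i) ∈ Submodule.span k s := fun r i hi =>
    Submodule.subset_span (Set.mem_iUnion.2 ⟨r, i, hi, rfl⟩)
  refine ⟨Submodule.span k s, ?_, ?_, ?_⟩
  · exact Module.Finite.span_of_finite k hsf
  · refine stab_of_span ?_
    intro w hw
    obtain ⟨r, i, hi, rfl⟩ := Set.mem_iUnion.1 hw
    refine ⟨(c r).support, inferInstance, fun j => α r j i, fun j => c r j, fun j => hmem r j j.2, fun A κ h => ?_⟩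
    rw [AddEquiv.symm_apply_apply, hα, Finsupp.sum, ← Finset.sum_coe_sort]
  · intro r A κ
    have h1 := hc r A κ 1
    rw [one_sm, exS_eq] at h1
    rw [h1]
    refine Submodule.sum_mem _ fun i hi => Submodule.smul_mem _ _ (Submodule.subset_span ?_)
    exact ⟨_, hmem r i hi, rfl⟩

/-- The matrix of a stable finite dimensional subspace. -/
theorem exists_matrix (hW : ∀ w ∈ W, Stab F W ((toKM F.obj _).symm w)) {n : ℕ} (B : Module.Basis (Fin n) k W) :
    ∃ C : Fin n → Fin n → Γ(G.left, ⊤), ∀ (j : Fin n) (A : (QS aX).obj) (κ : A ⟶ XX aX) (h : A.base ⟶ G),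
      F.obj.mapTop (sm h κ) ((toKM F.obj _).symm (B j)) =
        ∑ l, pf (𝒳 := QS aX) h (C l j) • F.obj.mapTop κ ((toKM F.obj _).symm (B l)) := by
  choose J hJ cc v hv H using fun j => hW (B j) (B j).2
  refine ⟨fun l j => ∑ s : J j, cc j s * st G (B.repr ⟨_, hv j s⟩ l), fun j A κ h => ?_⟩
  have h1 : ∀ s : J j, F.obj.mapTop κ (v j s) =
      ∑ l, sx A (B.repr ⟨_, hv j s⟩ l) • F.obj.mapTop κ ((toKM F.obj _).symm (B l)) := by
    intro s
    have h2 := congrArg (fun w : W => (toKM F.obj _).symm (w : KM F.obj (XX aX))) (B.sum_repr ⟨_, hv j s⟩)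
    simp only [AddEquiv.symm_apply_apply, Submodule.coe_sum, Submodule.coe_smul, map_sum] at h2
    refine (congrArg (F.obj.mapTop κ) h2.symm).trans ?_
    rw [mapTop_sum]
    refine Finset.sum_congr rfl fun l _ => ?_
    exact mapTop_ks F.obj κ _ _
  rw [H]
  simp only [h1, Finset.smul_sum, map_sum, Finset.sum_smul]
  rw [Finset.sum_comm]
  refine Finset.sum_congr rfl fun l _ => Finset.sum_congr rfl fun s _ => ?_
  rw [← mul_smul, map_mul, pf_st]

section Identities

variable {n : ℕ} {w : Fin n → Γ(F.obj.obj (XX aX), ⊤)} (hw : LinearIndependent k (fun l => toKM F.obj _ (w l)))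
  {C : Fin n → Fin n → Γ(G.left, ⊤)}
  (hC : ∀ (j : Fin n) (A : (QS aX).obj) (κ : A ⟶ XX aX) (h : A.base ⟶ G),
      F.obj.mapTop (sm h κ) (w j) = ∑ l, pf (𝒳 := QS aX) h (C l j) • F.obj.mapTop κ (w l))

include hw in
theorem eq_of_sum_eq {T : Over (Spec (CommRingCat.of k))} (hT : IsAffine T.left) (a a' : Fin n → Γ(T.left, ⊤))
    (h : ∑ l, pf (𝒳 := QS aX) (y := tr Scheme.fppfPrecoverage aX (snd T X ≫ 𝟙 X)) (fst T X) (a l) •
        F.obj.mapTop (trMap Scheme.fppfPrecoverage aX (snd T X) (𝟙 X) rfl) (w l) =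
      ∑ l, pf (𝒳 := QS aX) (y := tr Scheme.fppfPrecoverage aX (snd T X ≫ 𝟙 X)) (fst T X) (a' l) •
        F.obj.mapTop (trMap Scheme.fppfPrecoverage aX (snd T X) (𝟙 X) rfl) (w l)) (l : Fin n) : a l = a' l := by
  have hX := hQ aX
  refine sub_eq_zero.1 (indep F (prd_tr T (𝟙 X)) hT w hw (fun l => a l - a' l) ?_ l)
  simp only [map_sub, sub_smul, Finset.sum_sub_distrib]
  exact sub_eq_zero.2 h

include hw hC

theorem matrix_mul {T : Over (Spec (CommRingCat.of k))} (hT : IsAffine T.left) (g h : T ⟶ G) (i j : Fin n) :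
    (g * h).left.appTop (C i j) = ∑ l, h.left.appTop (C i l) * g.left.appTop (C l j) := by
  refine eq_of_sum_eq hw hT (fun i => (g * h).left.appTop (C i j))
    (fun i => ∑ l, h.left.appTop (C i l) * g.left.appTop (C l j)) ?_ i
  have h1 := hC j _ (trMap Scheme.fppfPrecoverage aX (snd T X) (𝟙 X) rfl) (fst T X ≫ (g * h))
  have h2 := hC j _ (sm (fst T X ≫ h) (trMap Scheme.fppfPrecoverage aX (snd T X) (𝟙 X) rfl)) (fst T X ≫ g)
  have h3 := fun l => hC l _ (trMap Scheme.fppfPrecoverage aX (snd T X) (𝟙 X) rfl) (fst T X ≫ h)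
  rw [← mul_sm, ← MonObj.comp_mul, h1] at h2
  simp only [h3, Finset.smul_sum] at h2
  rw [Finset.sum_comm] at h2
  refine Eq.trans ?_ (h2.trans ?_)
  · refine Finset.sum_congr rfl fun l _ => ?_
    rw [← pf_comp]
  · refine Finset.sum_congr rfl fun l _ => ?_
    rw [map_sum, Finset.sum_smul]
    refine Finset.sum_congr rfl fun l' _ => ?_
    rw [← mul_smul, map_mul, ← pf_comp, ← pf_comp, mul_comm]

theorem matrix_one {T : Over (Spec (CommRingCat.of k))} (hT : IsAffine T.left) (i j : Fin n) :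
    (1 : T ⟶ G).left.appTop (C i j) = if i = j then 1 else 0 := by
  refine eq_of_sum_eq hw hT (fun i => (1 : T ⟶ G).left.appTop (C i j)) (fun i => if i = j then 1 else 0) ?_ i
  have h1 := hC j _ (trMap Scheme.fppfPrecoverage aX (snd T X) (𝟙 X) rfl) (fst T X ≫ 1)
  rw [MonObj.comp_one, one_sm, ← MonObj.comp_one (fst T X)] at h1
  refine Eq.trans ?_ (h1.symm.trans ?_)
  · refine Finset.sum_congr rfl fun l _ => ?_
    rw [← pf_comp]
  · rw [Finset.sum_eq_single j]
    · rw [if_pos rfl, map_one, one_smul]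
    · intro l _ hl
      rw [if_neg hl, map_zero, zero_smul]
    · intro hj
      exact absurd (Finset.mem_univ j) hj

end Identities

end K159.Rep
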